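import Cfsg.Agent.TwoF.XE.Mid
import Cfsg.Agent.Mrg.Omega.Lie.HeisF

/-!
# TwoF / XE: dimension bounds for `F₄(3)`, `p = 2`, and `G₂(5)`, `G₂(7)`, `G₂(9)` (helper72)
-/

set_option autoImplicit false

namespace Cfsg.Agent.TwoF.XE.LB

open Module Cfsg.Lie Cfsg.Agent.H912.Bd

/-- the bounds for modules over `F₂` of the library -/
theorem lb_of_heis {S : Type} [Group S] [Nontrivial S] {m : ℕ} (h : Omega.Lie.Heis.LB.{0, 0, 0} S m) : LB 2 S m := by
  intro K _ _ π h1 h2 h3 h4 U _ _ _ σ h5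
  let φ : K →* MulAut (Multiplicative U) := MonoidHom.mk' (fun g =>
    { toFun := fun v => Multiplicative.ofAdd (σ g v.toAdd)
      invFun := fun v => Multiplicative.ofAdd (σ g⁻¹ v.toAdd)
      left_inv := fun v => by
        show Multiplicative.ofAdd ((σ g⁻¹ * σ g) v.toAdd) = v
        rw [← map_mul, inv_mul_cancel, map_one]; rfl
      right_inv := fun v => by
        show Multiplicative.ofAdd ((σ g * σ g⁻¹) v.toAdd) = v
        rw [← map_mul, mul_inv_cancel, map_one]; rfl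
      map_mul' := fun v w => congrArg Multiplicative.ofAdd (map_add (σ g) v.toAdd w.toAdd) })
    fun a b => MulEquiv.ext fun v => by
      show Multiplicative.ofAdd (σ (a * b) v.toAdd) = Multiplicative.ofAdd ((σ a * σ b) v.toAdd)
      rw [map_mul]
  have h6 : Nat.card (Multiplicative U) = 2 ^ finrank (ZMod 2) U := by
    rw [Nat.card_congr Multiplicative.toAdd, Module.natCard_eq_pow_finrank (K := ZMod 2), Nat.card_zmod]
  have h7 := h K π h2 h3.le (by rw [h3]; exact Nat.odd_iff.2 (by omega)) h1.commutator_eq_top (Multiplicative U)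
    (IsPGroup.of_card h6) φ fun e => by
      have : Nontrivial K := h2.nontrivial
      obtain ⟨x, hx⟩ := exists_ne (1 : K)
      refine hx (h5 (LinearMap.ext fun v => ?_))
      rw [map_one]
      exact congrArg (fun f : K →* MulAut (Multiplicative U) => (f x (Multiplicative.ofAdd v)).toAdd) e
  rw [h6] at h7
  exact (Nat.pow_le_pow_iff_right one_lt_two).1 h7

theorem f4_three (F : Type) [Field F] [Fintype F] (h : Fintype.card F = 3) : Row 2 (chevF4.group F) := by
  obtain ⟨r, f, hr, hc, hf, hF⟩ := exists_char F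
  have : Fact r.Prime := ⟨hr⟩
  obtain rfl : r = 3 := (Nat.prime_dvd_prime_iff_eq hr Nat.prime_three).1 (h ▸ hF ▸ dvd_pow_self r (by omega))
  have hS := S1062.result h
  have : Finite (chevF4.group F) := Nat.finite_of_card_ne_zero (by rw [hS]; norm_num)
  have : Nontrivial (chevF4.group F) := Finite.one_lt_card_iff_nontrivial.1 (by rw [hS]; norm_num)
  have h2 : (2 : F) ≠ 0 := fun e => by
    have := (CharP.cast_eq_zero_iff F 3 2).1 (by exact_mod_cast e)
    omega
  have h1 := lb_of_heis (Omega.TwoF.F4Odd.lb.{0, 0, 0} F h2)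
  rw [Nat.card_eq_fintype_card, h] at h1
  have hO := (S2122.result 3 f hF).le.trans (Nat.mul_le_mul (gcd_two_le 3) (hF ▸ exp_le hr.two_le : f ≤ Fintype.card F))
  rw [h] at hO
  have h3 : LB 2 (chevF4.group F) 200 := fun K _ _ π a1 a2 a3 a4 U _ _ _ σ a5 =>
    le_trans (by norm_num) (h1 K π a1 a2 a3 a4 U σ a5)
  exact (noOff_of_lb' h3 (S2103.result h.ge) one_ne_zero hS.le hO (by norm_num)).row

/-- the set of the weights of an elementary abelian subgroup -/
structure Wts {K T A : Type} [Field K] [Group T] [AddCommGroup A] (f : A → T) (W : Set (A → K)) : Prop where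
  fin : W.Finite
  add : ∀ χ ∈ W, ∀ u v, χ (u + v) = χ u * χ v
  zero : ∀ χ ∈ W, χ 0 = 1
  ne : ∀ v, f v ≠ 1 → ∃ χ ∈ W, χ v ≠ 1
  conj : ∀ (g : T) (M : A → A), (∀ v, g * f v * g⁻¹ = f (M v)) → ∀ χ ∈ W, χ ∘ M ∈ W

theorem exists_wts {k T A : Type} [Field k] [Group T] [AddCommGroup A] [Finite A] {n r : ℕ} (h : PR k n r T)
    (hr : r.Prime) (hk : (r : k) ≠ 0) (f : A → T) (hf : ∀ u v, f (u + v) = f u * f v) (hA : ∀ v : A, r • v = 0) :
    ∃ W : Set (A → AlgebraicClosure k), Wts f W ∧ W.ncard ≤ n := by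
  obtain ⟨L, _, π, ρ, hπ, hc, hcop, hρ⟩ := h
  let f' : Multiplicative A →* T := MonoidHom.mk' (fun v => f v.toAdd) fun u v => hf _ _
  have h0 : ∀ v, f v ^ r ^ 1 = 1 := fun v => by
    rw [pow_one]
    show f' (Multiplicative.ofAdd v) ^ r = 1
    rw [← map_pow, ← ofAdd_nsmul, hA, ofAdd_zero, map_one]
  have : Finite f'.range := Finite.of_surjective _ f'.rangeRestrict_surjective
  obtain ⟨B, hB, hBc, ⟨N, hN, hBN⟩, -, -⟩ := exists_data (F := k) hπ hc hcop hr hk (E := f'.range)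
    (by rintro _ ⟨u, rfl⟩ _ ⟨v, rfl⟩; rw [← map_mul, ← map_mul, mul_comm])
    (by rintro ⟨_, v, rfl⟩; exact ⟨1, Subtype.ext (h0 _)⟩)
  choose l h1 h2 using fun v => exists_lift hcop hπ (h0 v)
  have h3 : ∀ v, l v ∈ B := fun v => (hB _).2 ⟨⟨Multiplicative.ofAdd v, (h1 v).symm⟩, 1, h2 v⟩
  have h4 : ∀ x ∈ B, ∀ v, π x = f v → x = l v := fun x hx v e => by
    obtain ⟨-, j, hj⟩ := (hB x).1 hx
    exact lift_unique hc hcop (e.trans (h1 v).symm) hj (h2 v)
  have hi := indep_wt (repK ρ) hBc hN hBN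
  have h5 := WellFoundedGT.finite_ne_bot_of_iSupIndep hi
  refine ⟨(fun χ v => χ ⟨l v, h3 v⟩) '' {χ | wt (repK ρ) B χ ≠ ⊥}, ⟨h5.image _, ?_, ?_, fun v hv => ?_, ?_⟩, ?_⟩
  · rintro _ ⟨χ, hχ, rfl⟩ u v
    show χ _ = χ _ * χ _
    rw [← wt_mul _ hχ]
    exact congrArg χ (Subtype.ext (h4 _ (mul_mem (h3 u) (h3 v)) _ (by rw [map_mul, h1, h1, hf])).symm)
  · rintro _ ⟨χ, hχ, rfl⟩
    show χ _ = 1
    rw [← wt_one _ hχ]
    exact congrArg χ (Subtype.ext (h4 _ (one_mem _) _ (by rw [map_one]; exact (map_one f').symm)).symm)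
  · obtain ⟨χ, a1, a2⟩ := exists_wt (repK ρ) hBc hN hBN (c := ⟨l v, h3 v⟩) fun e =>
      hv ((h1 v).symm.trans (hρ (eq_one_of_repK e)))
    exact ⟨_, ⟨χ, a1, rfl⟩, a2⟩
  · rintro g M hM _ ⟨χ, hχ, rfl⟩
    obtain ⟨s, rfl⟩ := hπ g
    have a1 : ∀ a ∈ B, s * a * s⁻¹ ∈ B := fun a ha => by
      obtain ⟨⟨v, hv⟩, j, hj⟩ := (hB a).1 ha
      refine (hB _).2 ⟨⟨Multiplicative.ofAdd (M v.toAdd), ?_⟩, j, by rw [conj_pow, hj]; group⟩
      rw [map_mul, map_mul, map_inv, ← hv]
      exact (hM _).symm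
    refine ⟨fun a => χ ⟨s * a * s⁻¹, a1 a a.2⟩, fun e => hχ ?_, funext fun v => congrArg χ (Subtype.ext
      (h4 _ (a1 _ (h3 v)) _ (by rw [map_mul, map_mul, map_inv, h1, hM])))⟩
    have a2 := finrank_wt_le (repK ρ) (χ := χ) a1
    rw [e, finrank_bot, Nat.le_zero] at a2
    exact Submodule.finrank_eq_zero.1 a2
  · have : Fintype {χ // wt (repK ρ) B χ ≠ ⊥} := h5.fintype
    refine (Set.ncard_image_le h5).trans ?_
    have a1 := hi.subtype_ne_bot_le_finrank
    rw [Module.finrank_fintype_fun_eq_card, Fintype.card_fin, ← Nat.card_eq_fintype_card] at a1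
    rw [← Nat.card_coe_set_eq]
    exact a1

theorem Wts.inj {K T A : Type} [Field K] [Group T] [AddCommGroup A] {f : A → T} {W : Set (A → K)} (h : Wts f W)
    {χ : A → K} (hχ : χ ∈ W) {ι : Type} {M : ι → A → A} (hM : ∀ i j, i ≠ j → ∃ v, χ (M i v - M j v) ≠ 1) :
    Function.Injective fun i => χ ∘ M i := fun i j e => by_contra fun hne => by
  obtain ⟨v, hv⟩ := hM i j hne
  have h1 : χ (M i v) = χ (M j v) := congrFun e v
  rw [sub_eq_add_neg, h.add χ hχ, h1, ← h.add χ hχ, add_neg_cancel] at hv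
  exact hv (h.zero χ hχ)

theorem add_pair {T A B : Type} [Group T] [AddCommGroup A] [AddCommGroup B] {f : A → T} {g : B → T}
    (hf : ∀ u v, f (u + v) = f u * f v) (hg : ∀ u v, g (u + v) = g u * g v) (h : ∀ a b, f a * g b = g b * f a)
    (u v : A × B) : f (u + v).1 * g (u + v).2 = f u.1 * g u.2 * (f v.1 * g v.2) := by
  rw [Prod.fst_add, Prod.snd_add, hf, hg]
  exact Commute.mul_mul_mul_comm (h _ _) _ _

section GTwo

open Omega.TwoF.GTwoLB

variable {F : Type} [Field F]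

theorem cj0 {r s : ℕ} (hr : r < 12) (hs : s < 12) (hrs : s ≠ r) (hneg : s ≠ chevG2.neg r)
    (h : chevG2.commTerms r s = []) (t u : F) : X s u * X r t * (X s u)⁻¹ = X r t := by
  rw [rel0 hr hs hrs hneg h, mul_inv_cancel_right]

theorem c10_11 (t u : F) : X 10 t * X 11 u = X 11 u * X 10 t := (c11_10 u t).symm

theorem c9_11 (t u : F) : X 9 t * X 11 u = X 11 u * X 9 t :=
  rel0 (by norm_num) (by norm_num) (by decide) (by decide) (by decide +kernel) u t

theorem c9_10 (t u : F) : X 9 t * X 10 u = X 10 u * X 9 t :=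
  rel0 (by norm_num) (by norm_num) (by decide) (by decide) (by decide +kernel) u t

theorem c8_11 (t u : F) : X 8 t * X 11 u = X 11 u * X 8 t :=
  rel0 (by norm_num) (by norm_num) (by decide) (by decide) (by decide +kernel) u t

theorem c8_10 (t u : F) : X 8 t * X 10 u = X 10 u * X 8 t :=
  rel0 (by norm_num) (by norm_num) (by decide) (by decide) (by decide +kernel) u t

theorem c8_9 (t u : F) : X 8 t * X 9 u = X 9 u * X 8 t * X 11 (3 * u * t) := by
  rw [rel1 (r := 9) (s := 8) (k := 11) (c := -3) (by norm_num) (by norm_num) (by decide) (by decide)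
    (by decide +kernel)]
  congr 2
  push_cast
  ring

theorem j6_10 (s a : F) : X 6 s * X 10 a * (X 6 s)⁻¹ = X 10 a * X 11 (a * s) := by
  rw [rel1 (r := 10) (s := 6) (k := 11) (c := -1) (by norm_num) (by norm_num) (by decide) (by decide)
    (by decide +kernel), mul_assoc (X 10 a), ← c11_6, ← mul_assoc, mul_inv_cancel_right]
  congr 2
  push_cast
  ring

/-- the long part -/
noncomputable def fl (v : F × F) : chevG2.group F := X 10 v.1 * X 11 v.2

theorem fl_add (u v : F × F) : fl (u + v) = fl u * fl v := add_pair (X_add 10) (X_add 11) c10_11 u v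

theorem fl_6 (s : F) (v : F × F) : X 6 s * fl v * (X 6 s)⁻¹ = fl (v.1, v.2 + v.1 * s) := by
  rw [fl, ← conj_mul, j6_10, ← c11_6, mul_inv_cancel_right, mul_assoc, ← X_add, add_comm]
  rfl

theorem fl_h1 (z : Fˣ) (v : F × F) : H 1 (z : F) * fl v * (H 1 (z : F))⁻¹ = fl ((z : F)⁻¹ * v.1, z * v.2) := by
  rw [fl, ← conj_mul, H_conj (by norm_num) (by norm_num) z.ne_zero, H_conj (by norm_num) (by norm_num) z.ne_zero,
    show chevG2.cartan 1 10 = -1 by decide +kernel, show chevG2.cartan 1 11 = 1 by decide +kernel, zpow_neg_one, zpow_one]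
  rfl

theorem fl_comm {r : ℕ} (h1 : ∀ t u : F, X r t * X 10 u = X 10 u * X r t)
    (h2 : ∀ t u : F, X r t * X 11 u = X 11 u * X r t) (t : F) (v : F × F) : X r t * fl v = fl v * X r t := by
  rw [fl, ← mul_assoc, h1, mul_assoc, h2, mul_assoc]

theorem nsmul_char {r : ℕ} [CharP F r] (t : F) : r • t = 0 := by
  rw [nsmul_eq_mul, CharP.cast_eq_zero, zero_mul]

/-- `G₂(q)`, `q` prime to `3`: `(q - 1) q ^ 2` -/
theorem bd_g2 {k : Type} [Field k] [Fintype F] {r : ℕ} (hr : r.Prime) [CharP F r] (hk : (r : k) ≠ 0)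
    (h3 : (3 : F) ≠ 0) : Bd k r ((Fintype.card F - 1) * Fintype.card F ^ 2) (chevG2.group F) := by
  classical
  intro n hn
  obtain ⟨W, hW, h1⟩ := exists_wts hn hr hk (A := (F × F) × F) (fun v => fl v.1 * X 9 v.2)
    (add_pair fl_add (X_add 9) fun a b => (fl_comm c9_10 c9_11 b a).symm)
    fun v => Prod.ext (Prod.ext (nsmul_char _) (nsmul_char _)) (nsmul_char _)
  obtain ⟨χ, hχ, h2⟩ := hW.ne ((0, 1), 0) fun e => one_ne_zero ((X_eq_one (r := 11) (t := (1 : F)) (by norm_num)).1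
    (by simpa only [fl, X_zero, one_mul, mul_one] using e))
  let M : Fˣ × F × F → (F × F) × F → (F × F) × F := fun i v =>
    (((i.1 : F)⁻¹ * v.1.1, i.1 * (v.1.2 + v.1.1 * i.2.1 + 3 * v.2 * i.2.2)), v.2)
  have h4 : ∀ i, χ ∘ M i ∈ W := fun i => hW.conj (H 1 (i.1 : F) * (X 8 i.2.2 * X 6 i.2.1)) (M i) (fun v => by
    have a1 : X 6 i.2.1 * (fl v.1 * X 9 v.2) * (X 6 i.2.1)⁻¹ = fl (v.1.1, v.1.2 + v.1.1 * i.2.1) * X 9 v.2 := by
      rw [← conj_mul, fl_6, cj0 (by norm_num) (by norm_num) (by decide) (by decide) (by decide +kernel)]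
    have a2 : ∀ w : F × F, X 8 i.2.2 * (fl w * X 9 v.2) * (X 8 i.2.2)⁻¹ =
        fl (w.1, w.2 + 3 * v.2 * i.2.2) * X 9 v.2 := fun w => by
      rw [← conj_mul, fl_comm c8_10 c8_11, mul_inv_cancel_right, c8_9, mul_assoc (X 9 _), c8_11, ← mul_assoc (X 9 _),
        mul_inv_cancel_right, c9_11, ← mul_assoc, fl, mul_assoc (X 10 _), ← X_add]
      rfl
    show _ * (fl v.1 * X 9 v.2) * _ = _
    rw [show ∀ a b c x : chevG2.group F, a * (b * c) * x * (a * (b * c))⁻¹ = a * (b * (c * x * c⁻¹) * b⁻¹) * a⁻¹ from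
      fun _ _ _ _ => by group, a1, a2, ← conj_mul, fl_h1, H_conj (by norm_num) (by norm_num) i.1.ne_zero,
      show chevG2.cartan 1 9 = 0 by decide +kernel, zpow_zero, one_mul]) χ hχ
  have h5 := hW.inj hχ (M := M) (by
    rintro ⟨z, s, t⟩ ⟨z', s', t'⟩ hne
    by_cases a1 : z = z'
    swap
    · have a2 : (z : F) - z' ≠ 0 := sub_ne_zero.2 fun e => a1 (Units.ext e)
      refine ⟨((0, ((z : F) - z')⁻¹), 0), ?_⟩
      convert h2 using 2
      simp only [M, Prod.mk_sub_mk, Prod.mk.injEq]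
      refine ⟨⟨by ring, ?_⟩, by ring⟩
      field_simp
      ring
    subst a1
    have a0 := z.ne_zero
    by_cases a1 : s = s'
    swap
    · have a2 := sub_ne_zero.2 a1
      refine ⟨((((z : F) * (s - s'))⁻¹, 0), 0), ?_⟩
      convert h2 using 2
      simp only [M, Prod.mk_sub_mk, Prod.mk.injEq]
      refine ⟨⟨by ring, ?_⟩, by ring⟩
      field_simp
      ring
    subst a1
    have a2 : t - t' ≠ 0 := sub_ne_zero.2 fun e => hne (by rw [e])
    refine ⟨((0, 0), (3 * (z : F) * (t - t'))⁻¹), ?_⟩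
    convert h2 using 2
    simp only [M, Prod.mk_sub_mk, Prod.mk.injEq]
    refine ⟨⟨by ring, ?_⟩, by ring⟩
    field_simp
    ring)
  have h6 := Set.ncard_le_ncard (Set.range_subset_iff.2 h4) hW.fin
  rw [Set.ncard_range_of_injective h5, Nat.card_eq_fintype_card, Fintype.card_prod, Fintype.card_prod,
    Fintype.card_units, ← sq] at h6
  exact h6.trans h1

theorem g2_57 (p : ℕ) [Fact p.Prime] (F : Type) [Field F] [Fintype F] (h : Fintype.card F = 5 ∨ Fintype.card F = 7)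
    (hp : p ≠ Fintype.card F) : LB p (chevG2.group F) 100 := by
  have hr : (Fintype.card F).Prime := by rcases h with h | h <;> rw [h] <;> norm_num
  have : Fact (Fintype.card F).Prime := ⟨hr⟩
  have := charP_of_card_eq_prime (R := F) rfl
  have h3 : (3 : F) ≠ 0 := fun e => by
    have := (CharP.cast_eq_zero_iff F (Fintype.card F) 3).1 (by exact_mod_cast e)
    rcases h with h | h <;> rw [h] at this <;> omega
  refine lb_of_bd' ((bd_g2 hr (cast_ne_zero hr hp.symm) h3).mono ?_) (S2100.result (by omega)) (Nat.coprime_one_left _)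
  rcases h with h | h <;> rw [h] <;> norm_num

section Three

variable (h3 : (3 : F) = 0)

include h3

theorem c8_9' (t u : F) : X 8 t * X 9 u = X 9 u * X 8 t := by
  rw [c8_9, h3, zero_mul, zero_mul, X_zero, mul_one]

theorem c7_9 (t u : F) : X 7 t * X 9 u = X 9 u * X 7 t := by
  rw [rel1 (r := 9) (s := 7) (k := 10) (c := -3) (by norm_num) (by norm_num) (by decide) (by decide)
    (by decide +kernel)]
  push_cast
  rw [h3, neg_zero, zero_mul, zero_mul, X_zero, mul_one]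

theorem j7_8 (t y : F) : X 7 t * X 8 y * (X 7 t)⁻¹ = X 8 y * X 9 (y * t) := by
  have h1 : X 7 t * X 8 y = X 8 y * X 7 t * (X 9 (((2 : ℤ) : F) * (-y) ^ 1 * t ^ 1) *
      (X 11 (((3 : ℤ) : F) * (-y) ^ 2 * t ^ 1) * X 10 (((-3 : ℤ) : F) * (-y) ^ 1 * t ^ 2))) := by
    refine (Omega.TwoF.ChevHeis.xK_word inG2 (r := 8) (s := 7) (by decide) (by decide) (by decide) (by decide)
      y t).trans (congrArg _ (Subtype.ext ?_))
    show ChevalleyStructure.Elts.wordG inG2 ((chevG2.commTerms 8 7).map fun c =>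
      (c.1, (c.2.1 : F) * (-y) ^ c.2.2.1 * t ^ c.2.2.2)) = _
    rw [show chevG2.commTerms 8 7 = [(9, 2, 1, 1), (11, 3, 2, 1), (10, -3, 1, 2)] by decide +kernel]
    simp only [List.map_cons, List.map_nil, ChevalleyStructure.Elts.wordG_cons, ChevalleyStructure.Elts.wordG_nil,
      mul_one]
    rfl
  push_cast at h1
  rw [h3, neg_zero, zero_mul, zero_mul, zero_mul, zero_mul, X_zero, X_zero, mul_one, mul_one] at h1
  rw [h1, mul_assoc (X 8 y), c7_9 h3, ← mul_assoc, mul_inv_cancel_right]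
  congr 2
  linear_combination (-(y * t)) * h3

end Three

/-- the short part -/
noncomputable def fs (v : F × F) : chevG2.group F := X 8 v.1 * X 9 v.2

/-- `G₂(q)`, `q` a power of `3`: `2 (q - 1) q` -/
theorem bd_g2_three {k : Type} [Field k] [Fintype F] [CharP F 3] (hk : ((3 : ℕ) : k) ≠ 0) :
    Bd k 3 (2 * ((Fintype.card F - 1) * Fintype.card F)) (chevG2.group F) := by
  classical
  intro n hn
  have h3 : (3 : F) = 0 := by exact_mod_cast CharP.cast_eq_zero F 3
  obtain ⟨W, hW, h1⟩ := exists_wts hn Nat.prime_three hk (A := (F × F) × F × F) (fun v => fl v.1 * fs v.2)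
    (add_pair fl_add (add_pair (X_add 8) (X_add 9) (c8_9' h3)) fun a b => by
      rw [fs, ← mul_assoc, ← fl_comm c8_10 c8_11, mul_assoc, ← fl_comm c9_10 c9_11, mul_assoc])
    fun v => Prod.ext (Prod.ext (nsmul_char _) (nsmul_char _)) (Prod.ext (nsmul_char _) (nsmul_char _))
  refine le_trans ?_ h1
  have b6 : ∀ s : F, ∀ χ ∈ W, χ ∘ (fun v => ((v.1.1, v.1.2 + v.1.1 * s), v.2)) ∈ W := fun s =>
    hW.conj (X 6 s) _ fun v => by
      show _ * (fl v.1 * fs v.2) * _ = _
      rw [← conj_mul, fl_6, fs, ← conj_mul, cj0 (by norm_num) (by norm_num) (by decide) (by decide) (by decide +kernel),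
        cj0 (by norm_num) (by norm_num) (by decide) (by decide) (by decide +kernel)]
  have b7 : ∀ t : F, ∀ χ ∈ W, χ ∘ (fun v => (v.1, v.2.1, v.2.2 + v.2.1 * t)) ∈ W := fun t =>
    hW.conj (X 7 t) _ fun v => by
      show _ * (fl v.1 * fs v.2) * _ = _
      rw [← conj_mul, fl_comm (fun t u => rel0 (by norm_num) (by norm_num) (by decide) (by decide) (by decide +kernel) u t)
        (fun t u => rel0 (by norm_num) (by norm_num) (by decide) (by decide) (by decide +kernel) u t),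
        mul_inv_cancel_right, fs, ← conj_mul, j7_8 h3, c7_9 h3, mul_inv_cancel_right, mul_assoc (X 8 _), ← X_add,
        add_comm]
      rfl
  have b1 : ∀ z : Fˣ, ∀ χ ∈ W, χ ∘ (fun v => (((z : F)⁻¹ * v.1.1, z * v.1.2), z * v.2.1, v.2.2)) ∈ W := fun z =>
    hW.conj (H 1 (z : F)) _ fun v => by
      show _ * (fl v.1 * fs v.2) * _ = _
      rw [← conj_mul, fl_h1, fs, ← conj_mul, H_conj (by norm_num) (by norm_num) z.ne_zero,
        H_conj (by norm_num) (by norm_num) z.ne_zero, show chevG2.cartan 1 8 = 1 by decide +kernel,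
        show chevG2.cartan 1 9 = 0 by decide +kernel, zpow_one, zpow_zero, one_mul]
      rfl
  have b0 : ∀ z : Fˣ, ∀ χ ∈ W, χ ∘ (fun v => (((z : F) ^ 3 * v.1.1, v.1.2), (z : F)⁻¹ * v.2.1, z * v.2.2)) ∈ W :=
    fun z => hW.conj (H 0 (z : F)) _ fun v => by
      show _ * (fl v.1 * fs v.2) * _ = _
      rw [← conj_mul, fl, fs, ← conj_mul, ← conj_mul, H_conj (by norm_num) (by norm_num) z.ne_zero,
        H_conj (by norm_num) (by norm_num) z.ne_zero, H_conj (by norm_num) (by norm_num) z.ne_zero,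
        H_conj (by norm_num) (by norm_num) z.ne_zero, show chevG2.cartan 0 10 = (3 : ℕ) by decide +kernel,
        show chevG2.cartan 0 11 = 0 by decide +kernel, show chevG2.cartan 0 8 = -1 by decide +kernel,
        show chevG2.cartan 0 9 = 1 by decide +kernel, zpow_one, zpow_zero, one_mul, zpow_neg_one, zpow_natCast]
      rfl
  let M : Fˣ × F × F → (F × F) × F × F → (F × F) × F × F := fun i v =>
    (((i.1 : F)⁻¹ * v.1.1, i.1 * (v.1.2 + v.1.1 * i.2.1)), i.1 * v.2.1, v.2.2 + v.2.1 * i.2.2)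
  have hM : ∀ χ ∈ W, ∀ i, χ ∘ M i ∈ W := fun χ hχ i => b7 i.2.2 _ (b6 i.2.1 _ (b1 i.1 χ hχ))
  have hM' : ∀ (c : F) (z z' : Fˣ) (s s' t : F), (z, s) ≠ (z', s') → ∀ t', z = z' →
      ∃ v, M (z, s, t) v - M (z', s', t') v = ((0, c), 0, 0) := by
    rintro c z _ s s' t hne t' rfl
    have a0 := z.ne_zero
    have a2 : s - s' ≠ 0 := sub_ne_zero.2 fun e => hne (by rw [e])
    refine ⟨((c * ((z : F) * (s - s'))⁻¹, 0), 0, 0), ?_⟩
    simp only [M, Prod.mk_sub_mk, Prod.mk.injEq]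
    refine ⟨⟨by ring, ?_⟩, by ring, by ring⟩
    field_simp
    ring
  have hM'' : ∀ (c : F) (z z' : Fˣ) (s s' t t' : F), (z, s) ≠ (z', s') →
      ∃ v, M (z, s, t) v - M (z', s', t') v = ((0, c), 0, 0) := fun c z z' s s' t t' hne => by
    by_cases a1 : z = z'
    · exact hM' c z z' s s' t hne t' a1
    have a2 : (z : F) - z' ≠ 0 := sub_ne_zero.2 fun e => a1 (Units.ext e)
    refine ⟨((0, c * ((z : F) - z')⁻¹), 0, 0), ?_⟩
    simp only [M, Prod.mk_sub_mk, Prod.mk.injEq]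
    refine ⟨⟨by ring, ?_⟩, by ring, by ring⟩
    field_simp
    ring
  have hq : 2 ≤ Fintype.card F := Fintype.one_lt_card
  obtain ⟨χ, hχ, h2⟩ := hW.ne ((0, 0), 0, 1) fun e => one_ne_zero ((X_eq_one (r := 9) (t := (1 : F)) (by norm_num)).1
    (by simpa only [fl, fs, X_zero, one_mul, mul_one] using e))
  by_cases h4 : ∃ c, χ ((0, c), 0, 0) ≠ 1
  · obtain ⟨c, h4⟩ := h4
    have h5 := hW.inj hχ (M := M) (by
      rintro ⟨z, s, t⟩ ⟨z', s', t'⟩ hne
      by_cases a1 : (z, s) = (z', s')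
      · obtain ⟨rfl, rfl⟩ := Prod.mk.inj a1
        have a2 : t - t' ≠ 0 := sub_ne_zero.2 fun e => hne (by rw [e])
        refine ⟨((0, 0), (t - t')⁻¹, 0), ?_⟩
        convert h2 using 2
        simp only [M, Prod.mk_sub_mk, Prod.mk.injEq]
        refine ⟨⟨by ring, by ring⟩, by ring, ?_⟩
        field_simp
        ring
      · obtain ⟨v, hv⟩ := hM'' c z z' s s' t t' a1
        exact ⟨v, hv ▸ h4⟩)
    have h6 := Set.ncard_le_ncard (Set.range_subset_iff.2 (hM χ hχ)) hW.fin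
    rw [Set.ncard_range_of_injective h5, Nat.card_eq_fintype_card, Fintype.card_prod, Fintype.card_prod,
      Fintype.card_units] at h6
    refine le_trans ?_ h6
    rw [mul_comm 2, mul_assoc]
    gcongr
  push Not at h4
  obtain ⟨ψ, hψ, h5⟩ := hW.ne ((0, 1), 0, 0) fun e => one_ne_zero ((X_eq_one (r := 11) (t := (1 : F)) (by norm_num)).1
    (by simpa only [fl, fs, X_zero, one_mul, mul_one] using e))
  let M' : Fˣ × F → (F × F) × F × F → (F × F) × F × F := fun i v =>
    (((i.1 : F) ^ 3 * v.1.1, v.1.2), (i.1 : F)⁻¹ * v.2.1, i.1 * (v.2.2 + v.2.1 * i.2))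
  have h6 := hW.inj hψ (M := fun i : Fˣ × F => M (i.1, i.2, 0)) (by
    rintro ⟨z, s⟩ ⟨z', s'⟩ hne
    obtain ⟨v, hv⟩ := hM'' 1 z z' s s' 0 0 hne
    exact ⟨v, hv ▸ h5⟩)
  have h7 := hW.inj hχ (M := M') (by
    rintro ⟨z, s⟩ ⟨z', s'⟩ hne
    by_cases a1 : z = z'
    · subst a1
      have a0 := z.ne_zero
      have a2 : s - s' ≠ 0 := sub_ne_zero.2 fun e => hne (by rw [e])
      refine ⟨((0, 0), ((z : F) * (s - s'))⁻¹, 0), ?_⟩
      convert h2 using 2
      simp only [M', Prod.mk_sub_mk, Prod.mk.injEq]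
      refine ⟨⟨by ring, by ring⟩, by ring, ?_⟩
      field_simp
      ring
    · have a2 : (z : F) - z' ≠ 0 := sub_ne_zero.2 fun e => a1 (Units.ext e)
      refine ⟨((0, 0), 0, ((z : F) - z')⁻¹), ?_⟩
      convert h2 using 2
      simp only [M', Prod.mk_sub_mk, Prod.mk.injEq]
      refine ⟨⟨by ring, by ring⟩, by ring, ?_⟩
      field_simp
      ring)
  have h9 : ∀ i, χ ∘ M' i ∈ W := fun i => b7 i.2 _ (b0 i.1 χ hχ)
  have h8 := Set.ncard_le_ncard (Set.union_subset (Set.range_subset_iff.2 fun i : Fˣ × F => hM ψ hψ (i.1, i.2, 0))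
    (Set.range_subset_iff.2 h9)) hW.fin
  rw [Set.ncard_union_eq (Set.disjoint_left.2 (by
      rintro _ ⟨⟨z, s⟩, rfl⟩ ⟨⟨z', s'⟩, e⟩
      have a0 := z.ne_zero
      have a1 := congrFun e ((0, (z : F)⁻¹), 0, 0)
      simp only [M, M', Function.comp, mul_zero, zero_mul, add_zero, mul_inv_cancel₀ a0, h4] at a1
      exact h5 a1.symm)) (Set.finite_range _) (Set.finite_range _),
    Set.ncard_range_of_injective h6, Set.ncard_range_of_injective h7, Nat.card_eq_fintype_card, Fintype.card_prod,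
    Fintype.card_units, ← two_mul] at h8
  exact h8

theorem g2_nine (F : Type) [Field F] [Fintype F] (h : Fintype.card F = 9) : LB 2 (chevG2.group F) 93 := by
  have := charP_of_card_eq_prime_pow (R := F) (p := 3) (f := 2) h
  refine lb_of_bd' ((bd_g2_three (F := F) (cast_ne_zero Nat.prime_three (by norm_num))).mono ?_)
    (S2100.result (by omega)) (Nat.coprime_one_left _)
  rw [h]
  norm_num

end GTwo

end Cfsg.Agent.TwoF.XE.LB
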