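import Cfsg.Agent.TwoF.Gen.ASmall
import Cfsg.Agent.H203.LSDef
import Cfsg.Agent.H912.Bd2

/-!
# TwoF / XE: from the library's dimension bounds (`LS`, `Bd`) to `LB` and `NoOff` (helper6)
-/

set_option autoImplicit false

namespace Cfsg.Agent.TwoF.XE

open Module

/-- matrix form of a faithful representation -/
theorem exists_GL {k K U : Type} [Field k] [Group K] [AddCommGroup U] [Module k U] [FiniteDimensional k U]
    (σ : Representation k K U) (hσ : Function.Injective σ) :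
    ∃ ρ : K →* Matrix.GeneralLinearGroup (Fin (finrank k U)) k, Function.Injective ρ := by
  let e := LinearMap.toMatrixAlgEquiv (Module.finBasis k U)
  refine ⟨(e.toMonoidHom.comp σ).toHomUnits, fun a b h => hσ (e.injective ?_)⟩
  exact congrArg Units.val h

variable {p : ℕ} [Fact p.Prime] {S : Type} [Group S]

theorem cast_ne_zero {r : ℕ} (hr : r.Prime) (hrp : r ≠ p) : ((r : ℕ) : ZMod p) ≠ 0 := fun e =>
  hrp ((Nat.prime_dvd_prime_iff_eq Fact.out hr).1 ((ZMod.natCast_eq_zero_iff r p).1 e)).symm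

/-- a Landazuri–Seitz bound is a bound `LB` in every characteristic `p ≠ r` -/
theorem lb_of_ls [Nontrivial S] {r d : ℕ} (h : H203.LS.LS.{0, 0, 0} r d S) (hr : r.Prime) (hrp : r ≠ p) :
    LB p S d := by
  intro K _ _ π h1 h2 h3 _ U _ _ _ σ h5
  obtain ⟨ρ, hρ⟩ := exists_GL σ h5
  refine h K π h2 h3.le h1.commutator_eq_top (ZMod p) (cast_ne_zero hr hrp) _ ρ fun e => ?_
  have : Nontrivial K := h2.nontrivial
  obtain ⟨x, hx⟩ := exists_ne (1 : K)
  exact hx (hρ (by rw [e, map_one]; rfl))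

/-- a bound `Bd` (kernels of order prime to `r`) is a bound `LB` if the kernels that occur have order prime to `r` -/
theorem lb_of_bd {r d : ℕ} (h : H912.Bd.Bd (ZMod p) r d S)
    (hz : ∀ (K : Type) [Group K] [Finite K] (π : K →* S), IsStemExtension π → ¬ p ∣ Nat.card π.ker →
      (Nat.card π.ker).Coprime r) : LB p S d := by
  intro K _ _ π h1 h2 h3 h4 U _ _ _ σ h5
  obtain ⟨ρ, hρ⟩ := exists_GL σ h5
  refine h _ ⟨K, inferInstance, π, ρ, h2, fun x hx y => ?_,
    hz K π ⟨h2, h3.le, h1.commutator_eq_top ▸ le_top⟩ (h3 ▸ h4), ?_⟩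
  · exact (Subgroup.mem_center_iff.1 (h3.le hx) y).symm
  · rw [(MonoidHom.ker_eq_bot_iff ρ).2 hρ]
    exact bot_le

theorem card_ker_dvd {A : Type*} [CommGroup A] (hA : HasSchurMultiplier S A) (K : Type)
    [Group K] [Finite K] (π : K →* S) (h : IsStemExtension π) : Nat.card π.ker ∣ Nat.card A := by
  obtain ⟨f, hf⟩ := hA.2 K π h
  exact Subgroup.card_dvd_of_surjective f hf

theorem card_ker_dvd' {n : ℕ} (hA : HasCyclicSchurMultiplier S n) (K : Type)
    [Group K] [Finite K] (π : K →* S) (h : IsStemExtension π) : Nat.card π.ker ∣ n := by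
  have := card_ker_dvd hA K π h
  rwa [Nat.card_congr Multiplicative.toAdd, Nat.card_zmod] at this

theorem lb_of_bd' {r d n : ℕ} (h : H912.Bd.Bd (ZMod p) r d S) (hA : HasCyclicSchurMultiplier S n)
    (hn : n.Coprime r) : LB p S d :=
  lb_of_bd h fun K _ _ π hπ _ => Nat.Coprime.coprime_dvd_left (card_ker_dvd' hA K π hπ) hn

omit [Fact p.Prime] in
theorem pow_factorization_le {n : ℕ} (hn : n ≠ 0) : p ^ n.factorization p ≤ n :=
  Nat.le_of_dvd (Nat.pos_of_ne_zero hn) (Nat.ordProj_dvd n p)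

/-- `NoOff` from a bound `LB`, the multiplier (order `≤ z`), the order (`≤ s`) and the order of `Out` (`≤ o`) -/
theorem noOff_of_lb [Finite S] {d z s o : ℕ} (h : LB p S d) {A : Type*} [CommGroup A] [Finite A]
    (hA : HasSchurMultiplier S A) (hz : Nat.card A ≤ z) (hs : Nat.card S ≤ s) (ho : Nat.card (Out S) ≤ o)
    (hlt : (z * s * o) ^ 2 < p ^ d) : NoOff p S :=
  noOff_of_LB h (fun K _ _ π hπ _ => (card_ker_le_of_multiplier hA K π hπ).trans hz) hs
    ((pow_factorization_le Nat.card_pos.ne').trans ho) hlt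

theorem noOff_of_lb' [Finite S] {d z s o : ℕ} (h : LB p S d) (hA : HasCyclicSchurMultiplier S z) (hz : z ≠ 0)
    (hs : Nat.card S ≤ s) (ho : Nat.card (Out S) ≤ o) (hlt : (z * s * o) ^ 2 < p ^ d) : NoOff p S :=
  noOff_of_LB h (fun K _ _ π hπ _ => Nat.le_of_dvd (Nat.pos_of_ne_zero hz) (card_ker_dvd' hA K π hπ)) hs
    ((pow_factorization_le Nat.card_pos.ne').trans ho) hlt

theorem noOff_of_ls [Finite S] [Nontrivial S] {r d z s o : ℕ} (h : H203.LS.LS.{0, 0, 0} r d S) (hr : r.Prime)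
    (hrp : r ≠ p) {A : Type*} [CommGroup A] [Finite A] (hA : HasSchurMultiplier S A) (hz : Nat.card A ≤ z)
    (hs : Nat.card S ≤ s) (ho : Nat.card (Out S) ≤ o) (hlt : (z * s * o) ^ 2 < p ^ d) : NoOff p S :=
  noOff_of_lb (lb_of_ls h hr hrp) hA hz hs ho hlt

theorem noOff_of_ls' [Finite S] [Nontrivial S] {r d z s o : ℕ} (h : H203.LS.LS.{0, 0, 0} r d S) (hr : r.Prime)
    (hrp : r ≠ p) (hA : HasCyclicSchurMultiplier S z) (hz : z ≠ 0)
    (hs : Nat.card S ≤ s) (ho : Nat.card (Out S) ≤ o) (hlt : (z * s * o) ^ 2 < p ^ d) : NoOff p S :=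
  noOff_of_lb' (lb_of_ls h hr hrp) hA hz hs ho hlt

/-- `|Aut S| = |S| |Out S|` for a centreless group -/
theorem card_aut [Finite S] (hS : Subgroup.center S = ⊥) :
    Nat.card (MulAut S) = Nat.card S * Nat.card (Out S) := by
  have h1 : Function.Injective (MulAut.conj : S →* MulAut S) := by
    rw [injective_iff_map_eq_one]
    intro a ha
    have : a ∈ Subgroup.center S := Subgroup.mem_center_iff.2 fun g => by
      have := DFunLike.congr_fun ha g
      rw [MulAut.conj_apply, MulAut.one_apply] at this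
      rw [mul_inv_eq_iff_eq_mul] at this
      exact this.symm
    rwa [hS] at this
  rw [← Subgroup.card_mul_index (Inn S), Nat.card_congr (MonoidHom.ofInjective h1).toEquiv]
  rfl

/-- numerics: `x ≤ 2 ^ a`, `2 a < d` -/
theorem sq_lt_pow {x a d : ℕ} (hx : x ≤ 2 ^ a) (h : 2 * a < d) : x ^ 2 < p ^ d :=
  calc x ^ 2 ≤ (2 ^ a) ^ 2 := Nat.pow_le_pow_left hx 2
    _ = 2 ^ (2 * a) := by rw [← pow_mul, mul_comm]
    _ < 2 ^ d := Nat.pow_lt_pow_right one_lt_two h
    _ ≤ p ^ d := Nat.pow_le_pow_left (Fact.out : p.Prime).two_le d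

end Cfsg.Agent.TwoF.XE
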