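import Cfsg.Agent.TwoF.XE.Lo
import Cfsg.Agent.TwoF.Gen.BCov
import Cfsg.Agent.TwoF.Gen.BLay

/-!
# TwoF : weights of abelian subgroups, formulated inside `Aut S` (helper4)

`exists_R` : the canonical lift of an abelian subgroup of exponent prime to the centre.  `Lo.of_cop`, `Le.of_cop`,
`Le.of_frob` : coprime action.  `Li.of_rat` : eigenvalues of an element of prime order.  `li_rank_two` : the weights
of a group of order `s ^ 2`.
-/

set_option autoImplicit false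
set_option maxHeartbeats 400000

namespace Cfsg.Agent.TwoF.XE

open Module Gen Subgroup
open scoped commutatorElement

variable {p : ℕ} [Fact p.Prime] {S : Type} [Group S]

theorem inv_conj_pow {G : Type*} [Group G] (a b : G) (n : ℕ) : (a⁻¹ * b * a) ^ n = a⁻¹ * b ^ n * a := by
  simpa using conj_pow (a := a⁻¹) (b := b) (i := n)

section Lift

variable {Y : Type} [Group Y] [Finite Y] {V : Type} [AddCommGroup V] [Module (ZMod p) V]
  {K : Subgroup Y} {ρ : Representation (ZMod p) Y V} {π : K →* S} {φ : Y →* MulAut S}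

theorem Zc.ker_π {z : ℕ} (hz : Zc p S z) (H : Sit p K ρ π φ) : Nat.card π.ker ∣ z :=
  hz K π (H.toFrm.stem H.toStp.perfect) (by rw [H.ker_π]; exact H.cop)

theorem Zc.pow_eq_one {z : ℕ} (hz : Zc p S z) (H : Sit p K ρ π φ) {y : Y} (h : φ y = 1) : y ^ z = 1 := by
  have h1 : Nat.card φ.ker ∣ z := by
    rw [H.ker_φ, H.toStp.card_centralizer, ← H.ker_π]
    exact hz.ker_π H
  obtain ⟨c, rfl⟩ := h1
  rw [pow_mul, show y ^ Nat.card φ.ker = 1 from congrArg Subtype.val (pow_card_eq_one' (x := (⟨y, h⟩ : φ.ker))),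
    one_pow]

theorem Zc.exists_lift {z m : ℕ} (hz : Zc p S z) (H : Sit p K ρ π φ) (hc : m.Coprime z) {y : Y} (hy : φ y ^ m = 1) :
    ∃ u ∈ zpowers y, φ u = φ y ∧ u ^ m = 1 := by
  have h1 : (y ^ m) ^ z = 1 := hz.pow_eq_one H (by rw [map_pow, hy])
  refine ⟨y ^ ((z : ℤ) * Nat.gcdB m z), zpow_mem (mem_zpowers y) _, ?_, ?_⟩
  · have h2 := Nat.gcd_eq_gcd_ab m z
    rw [hc, Nat.cast_one] at h2
    rw [map_zpow, show (z : ℤ) * Nat.gcdB m z = 1 - m * Nat.gcdA m z by linarith, zpow_sub, zpow_mul, zpow_natCast, hy,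
      one_zpow, inv_one, mul_one, zpow_one]
  · rw [← zpow_natCast, ← zpow_mul, show (z : ℤ) * Nat.gcdB m z * m = (m * z : ℕ) * Nat.gcdB m z by push_cast; ring,
      zpow_mul, zpow_natCast, pow_mul, h1, one_zpow]

theorem Zc.lift_unique {z m : ℕ} (hz : Zc p S z) (H : Sit p K ρ π φ) (hc : m.Coprime z) {u v : Y} (hu : φ u ∈ Inn S)
    (h : φ u = φ v) (h1 : u ^ m = 1) (h2 : v ^ m = 1) : u = v := by
  have h3 : φ (u⁻¹ * v) = 1 := by rw [map_mul, map_inv, h, inv_mul_cancel]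
  have h4 : Commute u (u⁻¹ * v) := H.toFrm.φ_eq_one_iff.1 h3 u (H.toFrm.mem_inn_iff.1 hu)
  have h5 : (u⁻¹ * v) ^ m = 1 := by
    have := h4.mul_pow m
    rwa [mul_inv_cancel_left, h1, h2, one_mul, eq_comm] at this
  have h6 := pow_gcd_eq_one.2 ⟨h5, hz.pow_eq_one H h3⟩
  rw [hc, pow_one] at h6
  exact inv_mul_eq_one.1 h6

/-- the canonical lift of an abelian subgroup -/
theorem Zc.exists_R {z m : ℕ} (hz : Zc p S z) (H : Sit p K ρ π φ) (hmz : m.Coprime z) {P : Subgroup S}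
    (hc : ∀ a ∈ P, ∀ b ∈ P, a * b = b * a) (hm : ∀ a ∈ P, a ^ m = 1) :
    ∃ R : Subgroup Y, (∀ u, u ∈ R ↔ φ u ∈ P.map MulAut.conj ∧ u ^ m = 1) ∧ (∀ a ∈ R, ∀ b ∈ R, a * b = b * a) ∧
      R.map φ = P.map MulAut.conj ∧ ∀ y, (∀ x ∈ P, φ y x ∈ P) → y ∈ normalizer (R : Set Y) := by
  have hl : ∀ x ∈ P, ∃ u, φ u = MulAut.conj x ∧ u ^ m = 1 := fun x hx => by
    obtain ⟨y, rfl⟩ := H.surj x
    obtain ⟨u, -, h1, h2⟩ := hz.exists_lift H hmz (y := y) (by rw [H.toFrm.φ_coe, ← map_pow, hm _ hx, map_one])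
    exact ⟨u, h1.trans (H.toFrm.φ_coe y), h2⟩
  have hcm : ∀ a b : Y, φ a ∈ P.map MulAut.conj → a ^ m = 1 → φ b ∈ P.map MulAut.conj → a * b = b * a := by
    rintro a b ⟨x, hx, e⟩ h1 ⟨x', hx', e'⟩
    obtain ⟨y, rfl⟩ := H.surj x
    obtain ⟨y', rfl⟩ := H.surj x'
    have h2 : y * y' = y' * y := comm_of_coprime (π := π) H.ker_π.le (hc _ hx _ hx') (hm _ hx)
      (hmz.coprime_dvd_right (hz.ker_π H))
    have h3 : (y : Y) * y' = y' * y := congrArg Subtype.val h2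
    have h4 : (y : Y)⁻¹ * a ∈ centralizer (K : Set Y) :=
      H.toFrm.φ_eq_one_iff.1 (by rw [map_mul, map_inv, H.toFrm.φ_coe, e, inv_mul_cancel])
    have h5 : (y' : Y)⁻¹ * b ∈ centralizer (K : Set Y) :=
      H.toFrm.φ_eq_one_iff.1 (by rw [map_mul, map_inv, H.toFrm.φ_coe, e', inv_mul_cancel])
    have h6 : Commute (y : Y) ((y' : Y)⁻¹ * b) := h5 _ y.2
    have h7 : Commute (y' : Y) ((y : Y)⁻¹ * a) := h4 _ y'.2
    have h8 : Commute ((y : Y)⁻¹ * a) ((y' : Y)⁻¹ * b) := h5 _ (H.toFrm.cent h4)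
    have h9 := (Commute.mul_right (a := (y : Y)) h3 h6).mul_left (h7.symm.mul_right h8)
    rwa [mul_inv_cancel_left, mul_inv_cancel_left] at h9
  refine ⟨⟨⟨⟨{u | φ u ∈ P.map MulAut.conj ∧ u ^ m = 1}, fun {a b} ha hb => ⟨?_, ?_⟩⟩, ?_⟩, fun {a} ha => ⟨?_, ?_⟩⟩,
    fun _ => Iff.rfl, fun a ha b hb => hcm a b ha.1 ha.2 hb.1, le_antisymm ?_ ?_, fun y hy => ?_⟩
  · rw [map_mul]
    exact mul_mem ha.1 hb.1
  · rw [Commute.mul_pow (hcm a b ha.1 ha.2 hb.1), ha.2, hb.2, one_mul]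
  · exact ⟨by rw [map_one]; exact one_mem _, one_pow m⟩
  · rw [map_inv]
    exact inv_mem ha.1
  · rw [inv_pow, ha.2, inv_one]
  · rintro _ ⟨u, hu, rfl⟩
    exact hu.1
  · rintro _ ⟨x, hx, rfl⟩
    obtain ⟨u, h1, h2⟩ := hl x hx
    exact ⟨u, ⟨⟨x, hx, h1.symm⟩, h2⟩, h1⟩
  · refine mem_normalizer_fintype fun a ha => ⟨?_, by rw [conj_pow, ha.2, mul_one, mul_inv_cancel]⟩
    obtain ⟨x, hx, e⟩ := ha.1
    exact ⟨_, hy x hx, by rw [conj_apply, map_mul, map_mul, map_inv, e]⟩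

theorem card_cast_ne_zero {m : ℕ} (hm : m.Coprime p) {R : Subgroup Y} (h : ∀ a ∈ R, a ^ m = 1) :
    (Nat.card R : ZMod p) ≠ 0 := fun e => by
  obtain ⟨u, hu⟩ := exists_prime_orderOf_dvd_card' p ((ZMod.natCast_eq_zero_iff _ _).1 e)
  have h1 : p ∣ m := hu ▸ orderOf_dvd_of_pow_eq_one (Subtype.ext (h u u.2))
  exact (Fact.out : p.Prime).one_lt.ne' (Nat.eq_one_of_dvd_coprimes hm h1 dvd_rfl)

end Lift

variable {E : Subgroup (MulAut S)} {n c : ℕ} {α : MulAut S} {x : S}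

/-- **coprime action** of a `t`-group of automorphisms on an abelian subgroup -/
theorem Lo.of_cop {t m z : ℕ} [Fact t.Prime] (hz : Zc p S z) (hmz : m.Coprime z) (hmp : m.Coprime p) {P : Subgroup S}
    (hc : ∀ a ∈ P, ∀ b ∈ P, a * b = b * a) (hm : ∀ a ∈ P, a ^ m = 1) (hE : IsPGroup t E)
    (hn : ∀ α ∈ E, ∀ x ∈ P, α x ∈ P) (h : Lo p ⁅P.map MulAut.conj, E⁆ n) (hlt : t * (c - 1) < (t - 1) * n) :
    Lo p E c := fun Y _ _ V _ _ _ K ρ π φ H A hA => by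
  obtain ⟨R, h1, h2, h3, h4⟩ := hz.exists_R H hmz hc hm
  obtain ⟨X, hX, h5, h6⟩ := exists_pgroup_lift φ hE hA
  have h7 := coprime_bound (ρ := ρ) h2 (card_cast_ne_zero hmp fun a ha => ((h1 a).1 ha).2)
    (fun y hy => h4 y (hn _ (h6 ▸ ⟨y, hy, rfl⟩))) h5
  have h8 := h Y V K ρ π φ H ⁅R, X⁆ (by rw [map_commutator, h3, h6])
  have h9 := Nat.lt_of_mul_lt_mul_left ((hlt.trans_le (Nat.mul_le_mul_left _ h8)).trans_le h7)
  have h10 := cod_mono (ρ := ρ) hX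
  omega

/-- a `p`-group of automorphisms that acts semiregularly on an abelian subgroup -/
theorem Lo.of_semiregular {m z : ℕ} (hz : Zc p S z) (hmz : m.Coprime z) (hmp : m.Coprime p) {P : Subgroup S}
    (hc : ∀ a ∈ P, ∀ b ∈ P, a * b = b * a) (hm : ∀ a ∈ P, a ^ m = 1) (hE : IsPGroup p E)
    (hn : ∀ α ∈ E, ∀ x ∈ P, α x ∈ P) (hf : ∀ α ∈ E, α ≠ 1 → ∀ x ∈ P, α x = x → x = 1)
    (h : Lo p (P.map MulAut.conj) n) (hlt : Nat.card E * (c - 1) < (Nat.card E - 1) * n) :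
    Lo p E c := fun Y _ _ V _ _ _ K ρ π φ H A hA => by
  obtain ⟨R, h1, h2, h3, h4⟩ := hz.exists_R H hmz hc hm
  obtain ⟨X, hX, h5, h6⟩ := exists_pgroup_lift φ hE hA
  have h7 := frobenius_bound (ρ := ρ) h2 (card_cast_ne_zero hmp fun a ha => ((h1 a).1 ha).2)
    (A := X) (fun y hy => h4 y (hn _ (h6 ▸ ⟨y, hy, rfl⟩))) fun a ha e r hr ec => by
      obtain ⟨⟨x, hx, ex⟩, hr2⟩ := (h1 r).1 hr
      obtain ⟨j, hj⟩ := h5 ⟨a, ha⟩
      obtain ⟨u, rfl⟩ := H.surj x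
      have h8 : φ a (π u) = π u := by
        have h9 : MulAut.conj (φ a (π u) * (π u)⁻¹) = 1 := by
          rw [map_mul, map_inv, conj_apply, ex, ← map_inv, ← map_mul, ← map_mul, ec, mul_inv_cancel_right,
            mul_inv_cancel]
        obtain ⟨w, hw⟩ := H.surj (φ a (π u) * (π u)⁻¹)
        rw [← hw, ← H.toFrm.φ_coe, H.toFrm.φ_eq_one_iff, ← H.toFrm.π_eq_one_iff, hw] at h9
        exact mul_inv_eq_one.1 h9
      rw [hf _ (h6 ▸ ⟨a, ha, rfl⟩) (fun e' => e (H.toStp.eq_one_of_φ H.toFrm (congrArg Subtype.val hj) e')) _ hx h8,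
        map_one] at ex
      exact hz.lift_unique H hmz (ex ▸ one_mem _) (by rw [← ex, map_one]) hr2 (one_pow m)
  rw [← H.toStp.card_map H.toFrm h5, h6] at h7
  have h8 := h Y V K ρ π φ H R h3.ge
  have h9 := Nat.lt_of_mul_lt_mul_left ((hlt.trans_le (Nat.mul_le_mul_left _ h8)).trans_le h7)
  have h10 := cod_mono (ρ := ρ) hX
  omega

theorem Le.of_cop {t j m z : ℕ} [Fact t.Prime] (hz : Zc p S z) (hmz : m.Coprime z) (hmp : m.Coprime p) {P : Subgroup S}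
    (hc : ∀ a ∈ P, ∀ b ∈ P, a * b = b * a) (hm : ∀ a ∈ P, a ^ m = 1) (hα : α ^ t ^ j = 1)
    (hn : ∀ x ∈ P, α x ∈ P) (hx : x ∈ P) (h : Li p (α x * x⁻¹) n) (hlt : t * (c - 1) < (t - 1) * n) : Le p α c := by
  refine Lo.of_cop hz hmz hmp hc hm (fun g => ⟨j, Subtype.ext ?_⟩) (fun β hβ => ?_) (Le.lo h.inv ?_) hlt
  · obtain ⟨_, i, rfl⟩ := g
    show (α ^ i) ^ t ^ j = 1
    rw [← zpow_natCast, ← zpow_mul, mul_comm, zpow_mul, zpow_natCast, hα, one_zpow]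
  · obtain ⟨i, rfl⟩ := (isOfFinOrder_iff_pow_eq_one.2
      ⟨_, pow_pos (Fact.out : t.Prime).pos j, hα⟩).mem_powers_iff_mem_zpowers.2 hβ
    induction i with
    | zero => exact fun x hx => hx
    | succ i ih =>
      intro y hy
      show (α ^ (i + 1)) y ∈ P
      rw [pow_succ', MulAut.mul_apply]
      exact hn _ (ih (pow_mem (mem_zpowers α) i) y hy)
  · have := commutator_mem_commutator (H₁ := P.map MulAut.conj) ⟨x, hx, rfl⟩ (mem_zpowers α)
    rwa [show ⁅MulAut.conj x, α⁆ = MulAut.conj (α x * x⁻¹)⁻¹ by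
      rw [mul_inv_rev, inv_inv, map_mul, map_inv, conj_apply, commutatorElement_def]; group] at this

/-- a `t`-element that normalises and does not centralise a subgroup of prime order -/
theorem Le.of_frob {t j s z : ℕ} [Fact t.Prime] (hz : Zc p S z) (hs : s.Prime) (hsz : s.Coprime z) (hsp : s ≠ p)
    (hα : α ^ t ^ j = 1) (hx : x ^ s = 1) (h1 : α x ∈ zpowers x) (h2 : α x ≠ x) (h : Li p x n)
    (hlt : t * (c - 1) < (t - 1) * n) : Le p α c := by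
  have hA := elemAb_zpowers hx
  refine Le.of_cop hz hsz ((Nat.coprime_primes hs Fact.out).2 hsp) (fun a ha b hb => elemAb_comm hA ha hb) hA.2 hα
    ?_ (mem_zpowers x) (h.of_mem ?_) hlt
  · rintro _ ⟨i, rfl⟩
    rw [map_zpow]
    exact zpow_mem h1 i
  · have : Fact s.Prime := ⟨hs⟩
    have h3 : x ≠ 1 := fun e => h2 (by rw [e, map_one])
    obtain ⟨i, hi⟩ := mem_zpowers_of_prime_card (G := zpowers x) (by rw [Nat.card_zpowers, orderOf_eq_prime hx h3])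
      (g := ⟨_, mul_mem h1 (inv_mem (mem_zpowers x))⟩) (g' := ⟨x, mem_zpowers x⟩)
      fun e => h2 (mul_inv_eq_one.1 (congrArg Subtype.val e))
    exact ⟨i, congrArg Subtype.val hi⟩

theorem Li.of_frob {t j s z i : ℕ} [Fact t.Prime] (hz : Zc p S z) (hs : s.Prime) (hsz : s.Coprime z) (hsp : s ≠ p)
    {a : S} (ha : a ^ t ^ j = 1) (hx : x ^ s = 1) (h1 : a * x = x ^ i * a) (h2 : x ^ i ≠ x) (h : Li p x n)
    (hlt : t * (c - 1) < (t - 1) * n) : Li p a c := by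
  have h3 : MulAut.conj a x = x ^ i := by rw [MulAut.conj_apply, h1, mul_inv_cancel_right]
  exact Le.of_frob (j := j) hz hs hsz hsp (by rw [← map_pow, ha, map_one]) hx (h3 ▸ pow_mem (mem_zpowers x) i)
    (h3 ▸ h2) h hlt

theorem conj_ne_one {Y : Type} [Group Y] {K : Subgroup Y} {π : K →* S} {φ : Y →* MulAut S} (F : Frm K π φ)
    (h : x ≠ 1) : MulAut.conj x ≠ 1 := fun e => by
  obtain ⟨u, rfl⟩ := F.surj x
  rw [← F.φ_coe, F.φ_eq_one_iff, ← F.π_eq_one_iff] at e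
  exact h e

/-- the eigenvalues of an element of prime order -/
theorem Li.of_rat {s z i : ℕ} (hz : Zc p S z) (hs : s.Prime) (hsz : s.Coprime z) (hsp : s ≠ p) (h1 : x ≠ 1)
    (h2 : x ^ s = 1) {g : S} (hg : x * g = g * x ^ i) (L : List (ℕ × ℕ))
    (hL : (L.map fun q => i ^ q.1 * p ^ q.2 % s).Nodup) : Li p x L.length :=
  le_of_elt fun Y _ _ V _ _ _ K ρ π φ H y hy => by
    obtain ⟨u, hu, h3, h4⟩ := hz.exists_lift H hsz (y := y) (by rw [hy, ← map_pow, h2, map_one])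
    rw [hy] at h3
    obtain ⟨w, rfl⟩ := H.surj g
    have h5 : (w : Y)⁻¹ * u * w = u ^ i := by
      refine (hz.lift_unique H hsz (m := s) (by rw [map_pow, h3, ← map_pow]; exact ⟨_, rfl⟩) ?_ ?_ ?_).symm
      · rw [map_pow, map_mul, map_mul, map_inv, h3, H.toFrm.φ_coe, ← map_pow, ← map_inv, ← map_mul, ← map_mul,
          mul_assoc, hg, inv_mul_cancel_left]
      · rw [← pow_mul, mul_comm, pow_mul, h4, one_pow]
      · rw [inv_conj_pow, h4, mul_one, inv_mul_cancel]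
    have h6 : ∀ e : ℕ, ((w : Y) ^ e)⁻¹ * u * w ^ e = u ^ i ^ e := fun e => by
      induction e with
      | zero => simp
      | succ e ih =>
        rw [pow_succ' (w : Y), mul_inv_rev, pow_succ i, pow_mul, ← ih, inv_conj_pow, ← h5]
        group
    have h7 := card_mul_le_cod_zpowers (ρ := ρ) hs h4 (cast_ne_zero hs hsp)
      (fun e => conj_ne_one H.toFrm h1 (by rw [← h3, H.faithful (e.trans (map_one ρ).symm), map_one]))
      (L.map fun q => ((i ^ q.1 * p ^ q.2 : ℕ) : ZMod s)).toFinset (fun j hj => by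
        obtain ⟨q, -, rfl⟩ := List.mem_map.1 (List.mem_toFinset.1 hj)
        exact ⟨w ^ q.1, i ^ q.1, q.2, h6 _, by rw [ZMod.card]⟩) (m := 1) fun _ _ h => h
    rw [mul_one, List.toFinset_card_of_nodup, List.length_map] at h7
    · exact h7.trans (XL.cod_le_of_mem hu)
    · exact (List.nodup_map_iff_inj_on (hL.of_map _)).2 fun a ha b hb e =>
        (List.nodup_map_iff_inj_on (hL.of_map _)).1 hL a ha b hb ((ZMod.natCast_eq_natCast_iff' _ _ _).1 e)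

/-! ### rank two -/

/-- the action of a matrix on a weight (coded by `u + s v`) -/
def act (s : ℕ) (M : ℕ × ℕ × ℕ × ℕ) (i : ℕ) : ℕ :=
  (M.1 * (i % s) + M.2.1 * (i / s)) % s + s * ((M.2.2.1 * (i % s) + M.2.2.2 * (i / s)) % s)

/-- one step of the orbit algorithm (sets are bit masks) -/
def grow (s : ℕ) (Ms : List (ℕ × ℕ × ℕ × ℕ)) (m : ℕ) : ℕ :=
  (List.range (s * s)).foldr (fun i c => bif m.testBit i then Ms.foldr (fun M a => a ||| 2 ^ act s M i) c else c) m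

/-- `N` steps of the orbit algorithm -/
def orb (s : ℕ) (Ms : List (ℕ × ℕ × ℕ × ℕ)) (N i : ℕ) : ℕ := Nat.rec (2 ^ i) (fun _ m => grow s Ms m) N

/-- every orbit that contains a weight not trivial on `a ^ i b ^ j`, `(i, j)` in `T`, contains `n` of them -/
def chk (s : ℕ) (Ms : List (ℕ × ℕ × ℕ × ℕ)) (N n : ℕ) (T : List (ℕ × ℕ)) : Bool :=
  (List.range (s * s)).all fun i => T.all fun t => (t.1 * (i % s) + t.2 * (i / s)) % s == 0 ||
    n ≤ ((List.range (s * s)).filter fun j =>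
      (orb s Ms N i).testBit j && (t.1 * (j % s) + t.2 * (j / s)) % s != 0).length

/-- the points of the projective line -/
def pts (s : ℕ) : List (ℕ × ℕ) := (0, 1) :: (List.range s).map fun j => (1, j)

theorem orb_ind {s : ℕ} {Ms : List (ℕ × ℕ × ℕ × ℕ)} {P : ℕ → Prop} (h : ∀ M ∈ Ms, ∀ w, P w → P (act s M w))
    {w : ℕ} (hw : P w) (N : ℕ) : ∀ j, (orb s Ms N w).testBit j = true → P j := by
  induction N with
  | zero =>
    intro j e
    rw [show orb s Ms 0 w = 2 ^ w from rfl, Nat.testBit_two_pow, decide_eq_true_eq] at e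
    exact e ▸ hw
  | succ N ih =>
    have h1 : ∀ i, P i → ∀ L : List (ℕ × ℕ × ℕ × ℕ), (∀ M ∈ L, M ∈ Ms) → ∀ c : ℕ, (∀ j, c.testBit j = true → P j) →
        ∀ j, (L.foldr (fun M a => a ||| 2 ^ act s M i) c).testBit j = true → P j := fun i hi L => by
      induction L with
      | nil => exact fun _ _ hc => hc
      | cons M L ihL =>
        intro hL c hc j e
        rw [List.foldr_cons, Nat.testBit_or, Bool.or_eq_true, Nat.testBit_two_pow, decide_eq_true_eq] at e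
        rcases e with e | e
        · exact ihL (fun M' e' => hL M' (List.mem_cons_of_mem _ e')) c hc j e
        · exact e ▸ h M (hL M List.mem_cons_self) i hi
    show ∀ j, (grow s Ms (orb s Ms N w)).testBit j = true → P j
    rw [grow]
    induction List.range (s * s) with
    | nil => exact ih
    | cons i L ihL =>
      rw [List.foldr_cons]
      cases e : (orb s Ms N w).testBit i
      · exact ihL
      · exact h1 i (ih i e) Ms (fun _ e => e) _ ihL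

/-- the weights of a group generated by two commuting elements of prime order -/
theorem rank_two_core {Y : Type*} [Group Y] [Finite Y] {V : Type*} [AddCommGroup V] [Module (ZMod p) V] [Finite V]
    {ρ : Representation (ZMod p) Y V} {R : Subgroup Y} {s : ℕ} (hs : s.Prime) (hsp : s ≠ p)
    (hc : ∀ a ∈ R, ∀ b ∈ R, a * b = b * a) (he : ∀ a ∈ R, a ^ s = 1) (a b : R) (Ms : List (ℕ × ℕ × ℕ × ℕ))
    (hM : ∀ M ∈ Ms, ∃ g ∈ normalizer (R : Set Y), g⁻¹ * a * g = a ^ M.1 * b ^ M.2.1 ∧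
      g⁻¹ * b * g = a ^ M.2.2.1 * b ^ M.2.2.2) {N n : ℕ} {T : List (ℕ × ℕ)}
    (h : chk s ((p, 0, 0, p) :: Ms) N n T = true) {t : ℕ × ℕ} (ht : t ∈ T) (hρ : ρ (a ^ t.1 * b ^ t.2) ≠ 1) {m : ℕ}
    (hm : ∀ χ : R →* (AlgebraicClosure (ZMod p))ˣ, χ (a ^ t.1 * b ^ t.2) ≠ 1 →
      0 < mlt (bc (AlgebraicClosure (ZMod p)) ρ) R χ → m ≤ mlt (bc (AlgebraicClosure (ZMod p)) ρ) R χ) :
    n * m ≤ cod ρ (zpowers ((a : Y) ^ t.1 * b ^ t.2)) := by
  classical
  have : NeZero s := ⟨hs.ne_zero⟩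
  rw [← cod_bc (AlgebraicClosure (ZMod p))]
  obtain ⟨χ₀, h1, h2⟩ := exists_wt (ρ := bc (AlgebraicClosure (ZMod p)) ρ) hc
    (card_ne_zero_closure (card_ne_zero_of_exp hs (cast_ne_zero hs hsp) he)) (r := a ^ t.1 * b ^ t.2)
    (XL.bc_ne_one _ hρ)
  have hζ : IsPrimitiveRoot (χ₀ (a ^ t.1 * b ^ t.2)) s := by
    have := IsPrimitiveRoot.orderOf (χ₀ (a ^ t.1 * b ^ t.2))
    rwa [orderOf_char_eq hs (he _ (a ^ t.1 * b ^ t.2).2) h1] at this
  generalize hζ' : χ₀ (a ^ t.1 * b ^ t.2) = ζ at hζ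
  have h3 : ∀ r : R, ∃ u < s, ζ ^ u = χ₀ r := fun r => hζ.eq_pow_of_mem_rootsOfUnity
    ((mem_rootsOfUnity _ _).2 (by rw [← map_pow, show r ^ s = 1 from Subtype.ext (he r r.2), map_one]))
  obtain ⟨u, hu, eu⟩ := h3 a
  obtain ⟨v, hv, ev⟩ := h3 b
  have h4 : ∀ (χ : R →* (AlgebraicClosure (ZMod p))ˣ) (w : ℕ), χ a = ζ ^ (w % s) → χ b = ζ ^ (w / s) → ∀ i j : ℕ,
      χ (a ^ i * b ^ j) = ζ ^ ((i * (w % s) + j * (w / s)) % s) := fun χ w e1 e2 i j => by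
    rw [map_mul, map_pow, map_pow, e1, e2, ← pow_mul, ← pow_mul, ← pow_add, mul_comm (w % s), mul_comm (w / s),
      ← pow_eq_pow_mod _ hζ.pow_eq_one]
  have c1 : ∀ x y, x < s → (x + s * y) % s = x := fun x y e => by rw [Nat.add_mul_mod_self_left, Nat.mod_eq_of_lt e]
  have c2 : ∀ x y, x < s → (x + s * y) / s = y := fun x y e => by
    rw [Nat.add_mul_div_left _ _ hs.pos, Nat.div_eq_of_lt e, zero_add]
  rw [← c1 u v hu] at eu
  rw [← c2 u v hu] at ev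
  have h6 := orb_ind (s := s) (Ms := (p, 0, 0, p) :: Ms) (P := fun w =>
      ∃ χ : R →* (AlgebraicClosure (ZMod p))ˣ, mlt (bc (AlgebraicClosure (ZMod p)) ρ) R χ =
        mlt (bc (AlgebraicClosure (ZMod p)) ρ) R χ₀ ∧ χ a = ζ ^ (w % s) ∧ χ b = ζ ^ (w / s)) (fun M hM' w hw => by
    obtain ⟨χ, e0, e1, e2⟩ := hw
    rw [act, c1 _ _ (Nat.mod_lt _ hs.pos), c2 _ _ (Nat.mod_lt _ hs.pos)]
    rcases List.mem_cons.1 hM' with rfl | hM'
    · refine ⟨χ ^ Fintype.card (ZMod p), (mlt_pow_card _ χ).trans e0, ?_, ?_⟩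
      · rw [ZMod.card, MonoidHom.pow_apply, ← map_pow, ← mul_one (a ^ p), ← pow_zero b, h4 χ w e1 e2]
      · rw [ZMod.card, MonoidHom.pow_apply, ← map_pow, ← one_mul (b ^ p), ← pow_zero a, h4 χ w e1 e2]
    · obtain ⟨g, hg, e3, e4⟩ := hM M hM'
      exact ⟨tw g hg χ, (mlt_tw hg χ).trans e0, (tw_apply_of_eq hg χ (s := a ^ M.1 * b ^ M.2.1) e3.symm).trans
        (h4 χ w e1 e2 _ _), (tw_apply_of_eq hg χ (s := a ^ M.2.2.1 * b ^ M.2.2.2) e4.symm).trans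
        (h4 χ w e1 e2 _ _)⟩) (w := u + s * v) ⟨χ₀, rfl, eu.symm, ev.symm⟩ N
  have h8 := List.all_eq_true.1 (List.all_eq_true.1 h (u + s * v) (List.mem_range.2 (by nlinarith))) t ht
  rw [Bool.or_eq_true, beq_iff_eq, decide_eq_true_eq] at h8
  replace h8 := h8.resolve_left fun e => h1 (by rw [h4 χ₀ _ eu.symm ev.symm, e, pow_zero])
  choose! f hf using h6
  generalize hO : ((List.range (s * s)).filter fun j => (orb s ((p, 0, 0, p) :: Ms) N (u + s * v)).testBit j &&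
    (t.1 * (j % s) + t.2 * (j / s)) % s != 0) = O at h8
  have h5 : ∀ w ∈ O, w / s < s ∧ (orb s ((p, 0, 0, p) :: Ms) N (u + s * v)).testBit w = true ∧
      (t.1 * (w % s) + t.2 * (w / s)) % s ≠ 0 := fun w hw => by
    rw [← hO, List.mem_filter, List.mem_range, Bool.and_eq_true, bne_iff_ne] at hw
    exact ⟨Nat.div_lt_of_lt_mul hw.1, hw.2⟩
  have h9 := card_mul_le_cod (ρ := bc (AlgebraicClosure (ZMod p)) ρ) (B := zpowers ((a : Y) ^ t.1 * b ^ t.2))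
    (zpowers_le.2 (a ^ t.1 * b ^ t.2).2) (O.map f).toFinset (fun χ hχ e => by
      obtain ⟨w, hw, rfl⟩ := List.mem_map.1 (List.mem_toFinset.1 hχ)
      obtain ⟨-, e1, e2⟩ := h5 w hw
      have := e (a ^ t.1 * b ^ t.2) (mem_zpowers _)
      rw [h4 _ w (hf w e1).2.1 (hf w e1).2.2] at this
      exact e2 (hζ.pow_inj (Nat.mod_lt _ hs.pos) hs.pos (this.trans (pow_zero ζ).symm))) (m := m) fun χ hχ => by
      obtain ⟨w, hw, rfl⟩ := List.mem_map.1 (List.mem_toFinset.1 hχ)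
      rw [(hf w (h5 w hw).2.1).1]
      exact hm χ₀ h1 h2
  rw [List.toFinset_card_of_nodup, List.length_map] at h9
  · exact (Nat.mul_le_mul_right m h8).trans h9
  · refine (List.nodup_map_iff_inj_on (hO ▸ List.nodup_range.filter _)).2 fun w hw w' hw' e => ?_
    obtain ⟨e1, e2, -⟩ := h5 w hw
    obtain ⟨e3, e4, -⟩ := h5 w' hw'
    rw [← Nat.mod_add_div w s, ← Nat.mod_add_div w' s, hζ.pow_inj (Nat.mod_lt w hs.pos) (Nat.mod_lt w' hs.pos)
      (by rw [← (hf w e2).2.1, e, (hf w' e4).2.1]), hζ.pow_inj e1 e3 (by rw [← (hf w e2).2.2, e, (hf w' e4).2.2])]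

/-- **weights in rank two** -/
theorem li_rank_two {s z : ℕ} (hz : Zc p S z) (hs : s.Prime) (hsz : s.Coprime z) (hsp : s ≠ p) {a b : S}
    (hab : b * a = a * b) (ha : a ^ s = 1) (hb : b ^ s = 1) (Ms : List (ℕ × ℕ × ℕ × ℕ))
    (hM : ∀ M ∈ Ms, ∃ g, a * g = g * (a ^ M.1 * b ^ M.2.1) ∧ b * g = g * (a ^ M.2.2.1 * b ^ M.2.2.2))
    {N : ℕ} {T : List (ℕ × ℕ)} (h : chk s ((p, 0, 0, p) :: Ms) N n T = true) {t : ℕ × ℕ} (ht : t ∈ T)
    (h1 : a ^ t.1 * b ^ t.2 ≠ 1) : Li p (a ^ t.1 * b ^ t.2) n :=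
  le_of_elt fun Y _ _ V _ _ _ K ρ π φ H y hy => by
    obtain ⟨R, h2, h3, h4, h5⟩ := hz.exists_R H hsz (comm_sup_zpowers hab) (exp_sup_zpowers hab hb ha)
    have ma : a ∈ zpowers a ⊔ zpowers b := mem_sup_left (mem_zpowers a)
    have mb : b ∈ zpowers a ⊔ zpowers b := mem_sup_right (mem_zpowers b)
    obtain ⟨a', ha', ea⟩ := h4.ge ⟨a, ma, rfl⟩
    obtain ⟨b', hb', eb⟩ := h4.ge ⟨b, mb, rfl⟩
    have h6 : ∀ i j : ℕ, φ (a' ^ i * b' ^ j) = MulAut.conj (a ^ i * b ^ j) := fun i j => by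
      rw [map_mul, map_mul, map_pow, map_pow, map_pow, map_pow, ea, eb]
    have h7 : ∀ i j : ℕ, (a' ^ i * b' ^ j) ^ s = 1 := fun i j => ((h2 _).1 (mul_mem (pow_mem ha' i) (pow_mem hb' j))).2
    have h8 := rank_two_core (ρ := ρ) hs hsp h3 (fun a ha => ((h2 a).1 ha).2) ⟨a', ha'⟩ ⟨b', hb'⟩ Ms (fun M hM' => by
      obtain ⟨g, e1, e2⟩ := hM M hM'
      obtain ⟨w, rfl⟩ := H.surj g
      have key : ∀ (c : S) (c' : Y) (i j : ℕ), φ c' = MulAut.conj c → c' ^ s = 1 → c * π w = π w * (a ^ i * b ^ j) →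
          (w : Y)⁻¹ * c' * w = a' ^ i * b' ^ j := fun c c' i j e3 e4 e5 =>
        (hz.lift_unique H hsz (h6 i j ▸ ⟨_, rfl⟩) (by
          rw [h6, map_mul φ, map_mul φ, map_inv, e3, H.toFrm.φ_coe, ← map_inv, ← map_mul, ← map_mul, mul_assoc, e5,
            inv_mul_cancel_left]) (h7 i j) (by rw [inv_conj_pow, e4, mul_one, inv_mul_cancel])).symm
      refine ⟨w, ?_, key a a' _ _ ea ((h2 _).1 ha').2 e1, key b b' _ _ eb ((h2 _).1 hb').2 e2⟩
      rw [← inv_mem_iff]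
      refine h5 _ fun x hx => ?_
      have h9 : zpowers a ⊔ zpowers b ≤ (zpowers a ⊔ zpowers b).comap (φ (w : Y)⁻¹).toMonoidHom := by
        refine sup_le (zpowers_le.2 ?_) (zpowers_le.2 ?_)
        · show φ (w : Y)⁻¹ a ∈ zpowers a ⊔ zpowers b
          rw [map_inv, H.toFrm.φ_coe, MulAut.conj_inv_apply, mul_assoc, e1, inv_mul_cancel_left]
          exact mul_mem (pow_mem ma _) (pow_mem mb _)
        · show φ (w : Y)⁻¹ b ∈ zpowers a ⊔ zpowers b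
          rw [map_inv, H.toFrm.φ_coe, MulAut.conj_inv_apply, mul_assoc, e2, inv_mul_cancel_left]
          exact mul_mem (pow_mem ma _) (pow_mem mb _)
      exact h9 hx) h ht (fun e => conj_ne_one H.toFrm h1 (by
        rw [← h6, H.faithful (e.trans (map_one ρ).symm), map_one])) (m := 1) fun _ _ h => h
    obtain ⟨u, hu, e1, e2⟩ := hz.exists_lift H hsz (y := y) (by rw [hy, ← h6, ← map_pow, h7, map_one])
    rw [mul_one, hz.lift_unique H hsz (h6 _ _ ▸ ⟨_, rfl⟩) ((h6 t.1 t.2).trans (e1.trans hy).symm) (h7 _ _) e2] at h8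
    exact h8.trans (XL.cod_le_of_mem hu)

theorem exists_pow_of_mem_sup {G : Type*} [Group G] {a b : G} {s : ℕ} (hs : 0 < s) (hab : b * a = a * b)
    (ha : a ^ s = 1) (hb : b ^ s = 1) {x : G} (hx : x ∈ zpowers a ⊔ zpowers b) : ∃ i < s, ∃ j < s, x = a ^ i * b ^ j := by
  have hc : Commute a b := hab.symm
  let H : Subgroup G := ⟨⟨⟨{x | ∃ i j : ℕ, x = a ^ i * b ^ j}, by
    rintro _ _ ⟨i, j, rfl⟩ ⟨i', j', rfl⟩
    exact ⟨i + i', j + j', by rw [pow_add, pow_add, (hc.pow_pow i' j).symm.mul_mul_mul_comm]⟩⟩, 0, 0, by simp⟩, by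
    rintro _ ⟨i, j, rfl⟩
    refine ⟨i * (s - 1), j * (s - 1), inv_eq_of_mul_eq_one_right ?_⟩
    rw [(hc.pow_pow _ j).symm.mul_mul_mul_comm, ← pow_add, ← pow_add, ← mul_one_add, ← mul_one_add,
      show 1 + (s - 1) = s by omega, pow_mul', pow_mul', ha, hb]
    simp⟩
  obtain ⟨i, j, rfl⟩ := (sup_le (zpowers_le.2 ⟨1, 0, by simp⟩) (zpowers_le.2 ⟨0, 1, by simp⟩) : _ ≤ H) hx
  exact ⟨_, Nat.mod_lt i hs, _, Nat.mod_lt j hs, by rw [← pow_eq_pow_mod _ ha, ← pow_eq_pow_mod _ hb]⟩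

theorem not_dvd_index_sup {G : Type*} [Group G] [Finite G] {a b : G} {s : ℕ} [Fact s.Prime] (hab : b * a = a * b)
    (ha : a ^ s = 1) (hb : b ^ s = 1) (h1 : a ≠ 1) (h2 : ∀ i < s, a ^ i ≠ b) (h3 : ¬ s ^ 3 ∣ Nat.card G) :
    ¬ s ∣ (zpowers a ⊔ zpowers b).index := fun e => h3 (by
  have h4 := elemAb_isPGroup (elemAb_of (comm_sup_zpowers hab) (exp_sup_zpowers hab hb ha))
  have h5 : s ∣ (zpowers a).relIndex (zpowers a ⊔ zpowers b) := by
    obtain ⟨k, hk⟩ := h4.index ((zpowers a).subgroupOf (zpowers a ⊔ zpowers b))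
    rw [relIndex, hk]
    refine dvd_pow_self s fun e0 => ?_
    rw [e0, pow_zero, index_eq_one, subgroupOf_eq_top] at hk
    obtain ⟨i, hi⟩ := (mem_powers_iff_mem_zpowers).2 (hk (mem_sup_right (mem_zpowers b)))
    exact h2 _ (Nat.mod_lt i (Fact.out : s.Prime).pos) (by rw [← pow_eq_pow_mod _ ha]; exact hi)
  rw [← (zpowers a).card_mul_index, ← relIndex_mul_index (le_sup_left : zpowers a ≤ zpowers a ⊔ zpowers b),
    Nat.card_zpowers, orderOf_eq_prime ha h1, pow_succ', pow_two]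
  exact mul_dvd_mul_left s (mul_dvd_mul h5 e))

/-- **weights in rank two**, for a Sylow subgroup of order `s ^ 2` -/
theorem li_rank_two_all [Finite S] {s z : ℕ} (hz : Zc p S z) (hs : s.Prime) (hsz : s.Coprime z) (hsp : s ≠ p) {a b : S}
    (hab : b * a = a * b) (ha : a ^ s = 1) (hb : b ^ s = 1) (h1 : a ≠ 1) (h2 : ∀ i < s, a ^ i ≠ b)
    (h3 : ¬ s ^ 3 ∣ Nat.card S) (Ms : List (ℕ × ℕ × ℕ × ℕ))
    (hM : ∀ M ∈ Ms, ∃ g, a * g = g * (a ^ M.1 * b ^ M.2.1) ∧ b * g = g * (a ^ M.2.2.1 * b ^ M.2.2.2))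
    {N : ℕ} (h : chk s ((p, 0, 0, p) :: Ms) N n (pts s) = true) (x : S) (h4 : x ≠ 1)
    (h5 : x ^ s = 1) : Li p x n := by
  have : Fact s.Prime := ⟨hs⟩
  refine li_of_sylow (elemAb_isPGroup (elemAb_of (comm_sup_zpowers hab) (exp_sup_zpowers hab hb ha)))
    (not_dvd_index_sup hab ha hb h1 h2 h3) (fun y hy h6 _ => ?_) h4 h5
  obtain ⟨i, hi, j, hj, rfl⟩ := exists_pow_of_mem_sup hs.pos hab ha hb hy
  have h7 : ∀ k, (a ^ i * b ^ j) ^ k = a ^ (i * k % s) * b ^ (j * k % s) := fun k => by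
    rw [(Commute.pow_pow hab.symm i j).mul_pow, ← pow_mul, ← pow_mul, ← pow_eq_pow_mod _ ha, ← pow_eq_pow_mod _ hb]
  have h8 : ∀ t ∈ pts s, a ^ t.1 * b ^ t.2 ≠ 1 → Li p (a ^ t.1 * b ^ t.2) n := fun t ht =>
    li_rank_two hz hs hsz hsp hab ha hb Ms hM h ht
  have h9 : ∀ k, 0 < k % s → (a ^ i * b ^ j) ^ k ≠ 1 := fun k hk e => by
    have := orderOf_dvd_of_pow_eq_one e
    rw [orderOf_eq_prime (p := s) (by rw [h7, Nat.mul_mod_left, Nat.mul_mod_left, pow_zero, pow_zero, one_mul]) h6]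
      at this
    exact hk.ne' (Nat.mod_eq_zero_of_dvd this)
  have h10 : ∀ i, 0 < i → i < s → ∃ k, i * k % s = 1 ∧ 0 < k % s := fun i e1 e2 => by
    obtain ⟨k, -, hk⟩ := Nat.exists_mul_mod_eq_one_of_coprime (Nat.coprime_of_lt_prime e1.ne' e2 hs).symm hs.one_lt
    exact ⟨k, hk, Nat.pos_of_ne_zero fun e => by simp [Nat.mul_mod, e] at hk⟩
  rcases i.eq_zero_or_pos with rfl | hi0
  · obtain ⟨k, e1, e2⟩ := h10 j (Nat.pos_of_ne_zero fun e => h6 (by rw [e, pow_zero, pow_zero, one_mul])) hj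
    have h11 := h9 k e2
    refine Li.of_pow k ?_
    rw [h7, e1, zero_mul, Nat.zero_mod] at h11 ⊢
    exact h8 (0, 1) List.mem_cons_self h11
  · obtain ⟨k, e1, e2⟩ := h10 i hi0 hi
    have h11 := h9 k e2
    refine Li.of_pow k ?_
    rw [h7, e1] at h11 ⊢
    exact h8 (1, _) (List.mem_cons_of_mem _ (List.mem_map.2 ⟨_, List.mem_range.2 (Nat.mod_lt _ hs.pos), rfl⟩)) h11

/-- elements of prime order, for a Sylow subgroup of prime order -/
theorem li_rank_one_all [Finite S] {s : ℕ} (hs : s.Prime) {a : S} (ha : a ^ s = 1) (h1 : a ≠ 1)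
    (h3 : ¬ s ^ 2 ∣ Nat.card S) (h : Li p a n) (x : S) (h4 : x ≠ 1) (h5 : x ^ s = 1) : Li p x n := by
  have : Fact s.Prime := ⟨hs⟩
  refine li_of_sylow (elemAb_isPGroup (elemAb_zpowers ha)) (fun e => h3 ?_) (fun y hy h6 _ => h.of_mem ?_) h4 h5
  · rw [← (zpowers a).card_mul_index, Nat.card_zpowers, orderOf_eq_prime ha h1, pow_two]
    exact mul_dvd_mul_left s e
  · obtain ⟨i, hi⟩ := mem_zpowers_of_prime_card (G := zpowers a) (by rw [Nat.card_zpowers, orderOf_eq_prime ha h1])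
      (g := ⟨y, hy⟩) (g' := ⟨a, mem_zpowers a⟩) fun e => h6 (congrArg Subtype.val e)
    exact ⟨i, congrArg Subtype.val hi⟩

/-- a `t`-group of automorphisms normalises a Sylow `s`-subgroup if `t` does not divide their number -/
theorem exists_inv_sylow [Finite S] {s t : ℕ} [Fact s.Prime] [Fact t.Prime] (hE : IsPGroup t E)
    (h : ¬ t ∣ Nat.card (Sylow s S)) : ∃ P : Sylow s S, ∀ α ∈ E, ∀ x ∈ P, α x ∈ P := by
  obtain ⟨P, hP⟩ := hE.nonempty_fixed_point_of_prime_not_dvd_card (Sylow s S) h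
  refine ⟨P, fun α hα x hx => ?_⟩
  have h1 : α • P = P := hP ⟨α, hα⟩
  have h2 : α x ∈ ((α • P : Sylow s S) : Subgroup S) := ⟨x, hx, rfl⟩
  rwa [h1] at h2

end Cfsg.Agent.TwoF.XE
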