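import Cfsg.Agent.TwoF.XE.Num
import Cfsg.Agent.H203.LSSz
import Cfsg.Agent.H203.LSF4even
import Cfsg.Agent.H203.LSF4odd
import Cfsg.Agent.H203.LSG2
import Cfsg.Agent.H203.LSTwD4
import Cfsg.Agent.S1059
import Cfsg.Agent.S1062
import Cfsg.Agent.S1067
import Cfsg.Agent.S1069
import Cfsg.Agent.S1163
import Cfsg.Agent.S2100
import Cfsg.Agent.S2103
import Cfsg.Agent.S2110
import Cfsg.Agent.S2111
import Cfsg.Agent.S2113
import Cfsg.Agent.S2121
import Cfsg.Agent.S2122
import Cfsg.Agent.S2126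
import Cfsg.Agent.S2127
import Cfsg.Agent.S2129

/-!
# TwoF / XE: the box `²G₂`, and the boxes `F₄`, `³D₄`, `²B₂`, `G₂` up to their small members (helper6)
-/

set_option autoImplicit false

namespace Cfsg.Agent.TwoF.XE

open Cfsg.Lie

theorem center_eq_bot (S : Type) [Group S] [IsSimpleGroup S] (h : ¬ (Nat.card S).Prime) [Finite S] :
    Subgroup.center S = ⊥ := by
  refine (Subgroup.normal_of_characteristic (Subgroup.center S)).eq_bot_or_eq_top.resolve_right fun e => h ?_
  let : CommGroup S := { (inferInstance : Group S) with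
    mul_comm := fun a b => (Subgroup.mem_center_iff.1 (e ▸ Subgroup.mem_top b) a) }
  exact IsSimpleGroup.prime_card

theorem lin_lt_three_pow {m : ℕ} (hm : 2 ≤ m) : 36 * (2 * m + 1) + 1 < 3 ^ (2 * m + 1) := by
  induction m, hm using Nat.le_induction with
  | base => norm_num
  | succ n _ ih =>
    rw [show 2 * (n + 1) + 1 = 2 * n + 1 + 2 by ring, pow_add]
    omega

theorem lin_lt_two_pow {m : ℕ} (hm : 3 ≤ m) : 14 * (2 * m + 1) + 1 < 2 ^ (2 * m + 1) := by
  induction m, hm using Nat.le_induction with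
  | base => norm_num
  | succ n _ ih =>
    rw [show 2 * (n + 1) + 1 = 2 * n + 1 + 2 by ring, pow_add]
    omega

theorem boxRee : Box fun K _ => IsoRee K := by
  rintro p _ S _ _ _ ⟨F, _, _, m, hm, hF, ⟨e⟩⟩ hp -
  have hrp : 3 ≠ p := by
    rintro rfl
    exact hp (by
      unfold IsLieTypeChar
      exact .inr <| .inr <| .inr <| .inr <| .inr <| .inr <| .inr <| .inr <| .inr <| .inr ⟨rfl, F, _, _, m, hm, hF, ⟨e⟩⟩)
  have : Finite (twistedG2 F (3 ^ m)) := Finite.of_equiv _ e.toEquiv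
  have : IsSimpleGroup (twistedG2 F (3 ^ m)) := e.symm.isSimpleGroup
  have h1 := H203.LS.LS.ree.{0, 0, 0} hm hF
  rw [Nat.card_eq_fintype_card, hF] at h1
  have hS := S1069.result hF
  have hO := S2127.result hm hF
  refine Row.of_equiv ?_ e
  by_cases h2 : m = 1
  · subst h2
    have hA := card_aut (center_eq_bot (twistedG2 F (3 ^ 1)) (by rw [hS]; norm_num))
    rw [hS, hO] at hA
    by_cases h7 : 7 ≤ p
    · exact (noOff_of_ls' h1 Nat.prime_three hrp (S2113.result hm hF) one_ne_zero hS.le hO.le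
        (lt_of_lt_of_le (by norm_num) (Nat.pow_le_pow_left h7 _))).row
    have hp' : p.Prime := Fact.out
    have h5 : p = 2 ∨ p = 5 := by
      have := hp'.two_le
      interval_cases p <;> first | omega | exact absurd hp' (by norm_num)
    rcases h5 with rfl | rfl
    · exact ⟨row88_of_not_dvd (by rw [hA, Gen.small_two]; norm_num), row89_of_not_dvd (by rw [hO]; norm_num)⟩
    · exact (noOff_of_not_dvd (by rw [hA]; norm_num)).row
  refine (noOff_of_ls' h1 Nat.prime_three hrp (S2113.result hm hF) one_ne_zero hS.le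
    (hO.le.trans (exp_le (r := 3) (by norm_num))) ?_).row
  have h3 := lin_lt_three_pow (m := m) (by omega)
  have h4 : 3 ^ (2 * m + 1) ≤ 2 ^ (2 * (2 * m + 1)) := by
    rw [pow_mul]
    exact Nat.pow_le_pow_left (by norm_num) _
  refine sq_lt_pow (a := 2 * (2 * m + 1) * 9) ?_ (by omega)
  rw [pow_mul]
  refine le_trans ?_ (Nat.pow_le_pow_left h4 9)
  generalize 3 ^ (2 * m + 1) = q at *
  have hq : 2 ≤ q := by omega
  calc _ ≤ 1 * (q ^ 3 * q * q ^ (3 + 1)) * q := by
        gcongr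
        all_goals first | exact Nat.sub_le _ _ | exact pow_add_one_le hq _
    _ = _ := by ring

/-- the Suzuki groups, given `Sz(8)` -/
theorem boxSz_of (H : ∀ (p : ℕ) [Fact p.Prime] (F : Type) [Field F] [Fintype F], Fintype.card F = 8 → p ≠ 2 →
    Row p (Lie.Sz F 4)) : Box fun K _ => IsoSuzuki K := by
  rintro p _ S _ _ _ ⟨F, _, _, m, hm, hF, ⟨e⟩⟩ hp -
  have hrp : 2 ≠ p := by
    rintro rfl
    exact hp (by
      unfold IsLieTypeChar
      exact .inr <| .inr <| .inr <| .inr <| .inr <| .inr <| .inr <| .inr <| .inl ⟨rfl, F, _, _, m, hm, hF, ⟨e⟩⟩)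
  have : Finite (Lie.Sz F (2 ^ (m + 1))) := Finite.of_equiv _ e.toEquiv
  have : IsSimpleGroup (Lie.Sz F (2 ^ (m + 1))) := e.symm.isSimpleGroup
  have h1 := H203.LS.LS.sz.{0, 0, 0} hm hF
  rw [Nat.card_eq_fintype_card, hF] at h1
  have hS := (S1163.result hm hF).1
  have hO := S2126.result hm hF
  refine Row.of_equiv ?_ e
  by_cases h2 : m = 1
  · subst h2
    exact H p F hF hrp.symm
  have hm2 : 2 ≤ m := by omega
  by_cases h2 : m = 2
  · subst h2
    by_cases h5 : 5 ≤ p
    · exact (noOff_of_ls' h1 Nat.prime_two hrp (S2111.result hm2 hF) one_ne_zero hS.le hO.le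
        (lt_of_lt_of_le (by norm_num) (Nat.pow_le_pow_left h5 _))).row
    have hp' : p.Prime := Fact.out
    obtain rfl : p = 3 := by
      have := hp'.two_le
      interval_cases p <;> first | omega | exact absurd hp' (by norm_num)
    have hA := card_aut (center_eq_bot (Lie.Sz F (2 ^ (2 + 1))) (by rw [hS]; norm_num))
    rw [hS, hO] at hA
    exact (noOff_of_not_dvd (by rw [hA]; norm_num)).row
  refine (noOff_of_ls' h1 Nat.prime_two hrp (S2111.result hm2 hF) one_ne_zero hS.le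
    (hO.le.trans (exp_le (r := 2) le_rfl)) ?_).row
  have h3 := lin_lt_two_pow (m := m) (by omega)
  refine sq_lt_pow (a := (2 * m + 1) * 7) ?_ (by omega)
  rw [pow_mul]
  generalize 2 ^ (2 * m + 1) = q at *
  have hq : 2 ≤ q := by omega
  calc _ ≤ 1 * (q ^ 2 * q * q ^ (2 + 1)) * q := by
        gcongr
        all_goals first | exact Nat.sub_le _ _ | exact pow_add_one_le hq _
    _ = _ := by ring

/-- the groups `³D₄(q)`, given `³D₄(2)` -/
theorem box3D4_of (H : ∀ (p : ℕ) [Fact p.Prime] (F : Type) [Field F] [Fintype F], Fintype.card F = 8 → p ≠ 2 →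
    Row p (twistedD4 F 2)) : Box fun K _ => Iso3D4 K := by
  rintro p _ S _ _ _ ⟨F, _, _, q, hqq, hK, ⟨e⟩⟩ hp -
  obtain ⟨r, f, hr, hc, hf, hF⟩ := exists_char' F hqq hK
  have : Fact r.Prime := ⟨hr⟩
  have hrp : r ≠ p := by
    rintro rfl
    exact hp (by
      unfold IsLieTypeChar IsTwistedE6D4Char
      exact .inr <| .inr <| .inr <| .inr <| .inr <| .inr <| .inr <| .inl ⟨F, _, _, hc, q, hqq, .inr ⟨hK, ⟨e⟩⟩⟩)
  have : Finite (twistedD4 F q) := Finite.of_equiv _ e.toEquiv
  have : Nontrivial (twistedD4 F q) := e.symm.toEquiv.nontrivial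
  have hq : 2 ≤ q := hqq.two_le
  have hfq : f ≤ q := hF ▸ exp_le hr.two_le
  have hO : Nat.card (Out (twistedD4 F q)) = 3 * f := by
    subst hF
    exact S2129.result r f (by rw [hK, ← pow_mul, mul_comm]) hf
  refine Row.of_equiv ?_ e
  by_cases h2 : q = 2
  · obtain rfl : r = 2 := (Nat.prime_dvd_prime_iff_eq hr Nat.prime_two).1
      (h2 ▸ hF ▸ dvd_pow_self r (by omega))
    subst h2
    exact H p F hK hrp.symm
  have hq3 : 3 ≤ q := by omega
  refine (noOff_of_ls' (H203.LS.TwD4.ls.{0, 0, 0} hqq hK) hr hrp (S2110.result hqq hK) one_ne_zero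
    (S1067.result hqq hK).le hO.le ?_).row
  refine sq_lt_of_le (a := 31) hq ?_ (lt_of_lt_of_le (by norm_num) (Nat.pow_le_pow_left hq3 4))
  have h2 : q ^ 8 + q ^ 4 + 1 ≤ q ^ 9 := by
    have h1 : q ^ 4 ≤ q ^ 8 := Nat.pow_le_pow_right (by omega) (by norm_num)
    have h2 : 1 ≤ q ^ 8 := Nat.one_le_pow _ _ (by omega)
    rw [pow_succ q 8]
    nlinarith
  calc _ ≤ 1 * (q ^ 12 * q ^ 2 * q ^ 6 * q ^ 9) * (q * q) := by
        gcongr
        all_goals exact Nat.sub_le _ _
    _ = _ := by ring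

/-- the groups `F₄(q)`, given `F₄(2)` and `F₄(3)` -/
theorem boxF4_of (H2 : ∀ (p : ℕ) [Fact p.Prime] (F : Type) [Field F] [Fintype F], Fintype.card F = 2 → p ≠ 2 →
      Row p (chevF4.group F))
    (H3 : ∀ (F : Type) [Field F] [Fintype F], Fintype.card F = 3 → Row 2 (chevF4.group F)) :
    Box fun K _ => IsoF4 K := by
  rintro p _ S _ _ _ ⟨F, _, _, ⟨e⟩⟩ hp -
  obtain ⟨r, f, hr, hc, hf, hF⟩ := exists_char F
  have : Fact r.Prime := ⟨hr⟩
  have hrp : r ≠ p := by
    rintro rfl
    exact hp (by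
      unfold IsLieTypeChar IsExceptionalChevChar
      exact .inr <| .inr <| .inr <| .inr <| .inr <| .inr <| .inl ⟨F, _, inferInstance, hc, .inr <| .inl ⟨e⟩⟩)
  have : Finite (chevF4.group F) := Finite.of_equiv _ e.toEquiv
  have : Nontrivial (chevF4.group F) := e.symm.toEquiv.nontrivial
  have hq : 2 ≤ Fintype.card F := Fintype.one_lt_card
  have hfq : f ≤ Fintype.card F := hF ▸ exp_le hr.two_le
  refine Row.of_equiv ?_ e
  by_cases h2 : Fintype.card F = 2
  · obtain rfl : r = 2 := (Nat.prime_dvd_prime_iff_eq hr Nat.prime_two).1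
      (h2 ▸ hF ▸ dvd_pow_self r (by omega))
    exact H2 p F h2 hrp.symm
  have h1 : H203.LS.LS.{0, 0, 0} r ((Nat.card F - 1) * Nat.card F ^ 4) (chevF4.group F) := by
    by_cases h : (2 : F) = 0
    · exact H203.LS.F4even.ls_even F h (by rw [Nat.card_eq_fintype_card]; omega)
    · exact H203.LS.F4odd.ls_odd F h
  rw [Nat.card_eq_fintype_card] at h1
  have hO := (S2122.result r f hF).le.trans (Nat.mul_le_mul (gcd_two_le r) hfq)
  by_cases h3 : Fintype.card F = 3
  · by_cases hp2 : p = 2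
    · subst hp2
      exact H3 F h3
    have hp3 : 3 ≤ p := by
      have := (Fact.out : p.Prime).two_le
      omega
    rw [h3] at h1 hO
    exact (noOff_of_ls' h1 hr hrp (S2103.result (by omega)) one_ne_zero (S1062.result h3).le hO
      (lt_of_lt_of_le (by norm_num) (Nat.pow_le_pow_left hp3 _))).row
  refine (noOff_of_ls' h1 hr hrp (S2103.result (by omega)) one_ne_zero (S1062.result rfl).le hO ?_).row
  generalize Fintype.card F = q at *
  have hq4 : 4 ≤ q := by omega
  refine sq_lt_of_le (a := 54) hq ?_ (lt_of_lt_of_le (by norm_num) (Nat.pow_le_pow_left hq4 4))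
  calc _ ≤ 1 * (q ^ 24 * q ^ 2 * q ^ 6 * q ^ 8 * q ^ 12) * (q * q) := by
        gcongr
        all_goals exact Nat.sub_le _ _
    _ = _ := by ring

theorem pow_le_two_pow {q : ℕ} (hq : 13 ≤ q) : q ^ 32 < 2 ^ ((q - 1) * q) := by
  have h1 : ∀ n, 13 ≤ n → n ^ 8 ≤ 2 ^ (3 * (n - 1)) := by
    intro n hn
    induction n, hn using Nat.le_induction with
    | base => norm_num
    | succ n hn ih =>
      have h2 : (n + 1) ^ 8 ≤ 8 * n ^ 8 := by
        have h3 : 4 * (n + 1) ≤ 5 * n := by omega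
        have h4 := Nat.pow_le_pow_left h3 8
        rw [mul_pow, mul_pow] at h4
        omega
      rw [show 3 * (n + 1 - 1) = 3 * (n - 1) + 3 by omega, pow_add]
      omega
  calc q ^ 32 = (q ^ 8) ^ 4 := by ring
    _ ≤ (2 ^ (3 * (q - 1))) ^ 4 := Nat.pow_le_pow_left (h1 q hq) 4
    _ < _ := by
      rw [← pow_mul]
      refine Nat.pow_lt_pow_right one_lt_two ?_
      have : 12 ≤ q - 1 := by omega
      nlinarith

/-- the groups `G₂(q)`, given the small ones -/
theorem boxG2_of (H3 : ∀ (p : ℕ) [Fact p.Prime] (F : Type) [Field F] [Fintype F], Fintype.card F = 3 → p ≠ 3 →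
      Row p (chevG2.group F))
    (H4 : ∀ (p : ℕ) [Fact p.Prime] (F : Type) [Field F] [Fintype F], Fintype.card F = 4 → p ≠ 2 →
      Row p (chevG2.group F))
    (H57 : ∀ (p : ℕ) [Fact p.Prime] (F : Type) [Field F] [Fintype F], Fintype.card F = 5 ∨ Fintype.card F = 7 →
      p ≠ Fintype.card F → LB p (chevG2.group F) 100)
    (H9 : ∀ (F : Type) [Field F] [Fintype F], Fintype.card F = 9 → LB 2 (chevG2.group F) 93) :
    Box fun K _ => IsoChevG2 K := by
  rintro p _ S _ _ _ ⟨F, _, _, hq, ⟨e⟩⟩ hp -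
  obtain ⟨r, f, hr, hc, hf, hF⟩ := exists_char F
  have : Fact r.Prime := ⟨hr⟩
  have hrp : r ≠ p := by
    rintro rfl
    exact hp (by
      unfold IsLieTypeChar IsExceptionalChevChar
      exact .inr <| .inr <| .inr <| .inr <| .inr <| .inr <| .inl ⟨F, _, inferInstance, hc, .inl ⟨hq, ⟨e⟩⟩⟩)
  have : Finite (chevG2.group F) := Finite.of_equiv _ e.toEquiv
  have : Nontrivial (chevG2.group F) := e.symm.toEquiv.nontrivial
  have hfq : f ≤ Fintype.card F := hF ▸ exp_le hr.two_le
  have hrq : r ∣ Fintype.card F := hF ▸ dvd_pow_self r (by omega)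
  have hp2 : 2 ≤ p := (Fact.out : p.Prime).two_le
  refine Row.of_equiv ?_ e
  by_cases h3 : Fintype.card F = 3
  · obtain rfl : r = 3 := (Nat.prime_dvd_prime_iff_eq hr Nat.prime_three).1 (h3 ▸ hrq)
    exact H3 p F h3 hrp.symm
  by_cases h4 : Fintype.card F = 4
  · obtain rfl : r = 2 := (Nat.prime_dvd_prime_iff_eq hr Nat.prime_two).1
      (hr.dvd_of_dvd_pow (n := 2) (by rw [h4] at hrq; exact hrq))
    exact H4 p F h4 hrp.symm
  have hZ := S2100.result (F := F) (by omega)
  have hS := (S1059.result (F := F) rfl).le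
  have hO := S2121.result r f hF (hF ▸ hq)
  have hO' : Nat.card (Out (chevG2.group F)) ≤ 2 * f := by
    rw [hO]
    split_ifs <;> omega
  have h1 := H203.LS.G2.ls.{0, 0, 0} (r := r) F (by rw [Nat.card_eq_fintype_card]; omega)
    (by rwa [Nat.card_eq_fintype_card])
  rw [Nat.card_eq_fintype_card] at h1
  have hf' : ∀ n, Fintype.card F < 2 ^ n → f < n := fun n hn => by
    by_contra h
    have h5 := Nat.pow_le_pow_right (n := 2) (by norm_num) (not_lt.1 h)
    have h6 := Nat.pow_le_pow_left hr.two_le f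
    omega
  by_cases h5 : Fintype.card F = 5 ∨ Fintype.card F = 7
  · have h6 := H57 p F h5 (by
      rintro rfl
      exact hrp ((Nat.prime_dvd_prime_iff_eq hr Fact.out).1 hrq))
    have h7 := hf' 3 (by omega)
    refine (noOff_of_lb' (o := 4) h6 hZ one_ne_zero hS (by omega) ?_).row
    rcases h5 with h5 | h5 <;> rw [h5] <;> exact lt_of_lt_of_le (by norm_num) (Nat.pow_le_pow_left hp2 _)
  by_cases h13 : 13 ≤ Fintype.card F
  · refine (noOff_of_ls' h1 hr hrp hZ one_ne_zero hS (hO'.trans (Nat.mul_le_mul (le_trans (by norm_num) h13) hfq))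
      (lt_of_le_of_lt ?_ ((pow_le_two_pow h13).trans_le (Nat.pow_le_pow_left hp2 _)))).row
    generalize Fintype.card F = q
    calc _ ≤ (1 * (q ^ 6 * q ^ 2 * q ^ 6) * (q * q)) ^ 2 := by
          gcongr
          all_goals exact Nat.sub_le _ _
      _ = _ := by ring
  have h7 := hf' 4 (by omega)
  have hpp : IsPrimePow (Fintype.card F) := hF ▸ (hr.isPrimePow.pow (by omega))
  have h8 : Fintype.card F = 8 ∨ Fintype.card F = 9 ∨ Fintype.card F = 11 := by
    have h6 : ¬ IsPrimePow 6 := by decide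
    have h10 : ¬ IsPrimePow 10 := by decide
    have h12 : ¬ IsPrimePow 12 := by decide
    have : Fintype.card F ≠ 6 := fun e => h6 (e ▸ hpp)
    have : Fintype.card F ≠ 10 := fun e => h10 (e ▸ hpp)
    have : Fintype.card F ≠ 12 := fun e => h12 (e ▸ hpp)
    omega
  rcases h8 with h8 | h8 | h8
  · obtain rfl : r = 2 := (Nat.prime_dvd_prime_iff_eq hr Nat.prime_two).1
      (hr.dvd_of_dvd_pow (n := 3) (by rw [h8] at hrq; exact hrq))
    rw [if_neg (by norm_num)] at hO
    rw [h8] at h1 hS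
    exact (noOff_of_ls' (o := 3) h1 hr hrp hZ one_ne_zero hS (by omega)
      (lt_of_lt_of_le (by norm_num) (Nat.pow_le_pow_left (show 3 ≤ p by omega) _))).row
  · obtain rfl : r = 3 := (Nat.prime_dvd_prime_iff_eq hr Nat.prime_three).1
      (hr.dvd_of_dvd_pow (n := 2) (by rw [h8] at hrq; exact hrq))
    have hf2 : f ≤ 2 := by
      by_contra h
      have := Nat.pow_le_pow_right (n := 3) (by norm_num) (show 3 ≤ f by omega)
      omega
    rw [h8] at h1 hS
    by_cases h2 : p = 2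
    · subst h2
      exact (noOff_of_lb' (o := 4) (H9 F h8) hZ one_ne_zero hS (by omega) (by norm_num)).row
    exact (noOff_of_ls' (o := 4) h1 hr hrp hZ one_ne_zero hS (by omega)
      (lt_of_lt_of_le (by norm_num) (Nat.pow_le_pow_left (show 3 ≤ p by omega) _))).row
  · obtain rfl : r = 11 := (Nat.prime_dvd_prime_iff_eq hr (by norm_num)).1 (h8 ▸ hrq)
    rw [h8] at h1 hS
    exact (noOff_of_ls' (o := 6) h1 hr hrp hZ one_ne_zero hS (by omega)
      (lt_of_lt_of_le (by norm_num) (Nat.pow_le_pow_left hp2 _))).row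

end Cfsg.Agent.TwoF.XE
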