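import Cfsg.Agent.TwoF.XE.Crit
import Cfsg.Agent.TwoF.XE.Mid
import Cfsg.Agent.TwoF.XE.LB
import Cfsg.Agent.H326.F4C.Cover
import Cfsg.Agent.H197.Reg.Main
import Cfsg.Agent.H134.Syl.F4TwoMain
import Cfsg.Agent.FourTwo.Facts2
import Cfsg.Agent.S2104

/-!
# TwoF / XE : the box of the groups `F₄(q)` (helper4)
-/

set_option autoImplicit false
set_option maxRecDepth 100000

namespace Cfsg.Agent.TwoF.XE

open Subgroup Gen
open scoped commutatorElement

section Rank

variable {p : ℕ} [Fact p.Prime]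

theorem card_le_of_inner {S : Type} [Group S] (hS : center S = ⊥) (ho : ¬ p ∣ Nat.card (Out S)) {N : ℕ}
    (h : ∀ E : Subgroup S, IsElementaryAbelian p E → Nat.card E ≤ N) (E : Subgroup (MulAut S))
    (hE : IsElementaryAbelian p E) : Nat.card E ≤ N := by
  have hi : Function.Injective (MulAut.conj : S →* MulAut S) :=
    (injective_iff_map_eq_one _).2 fun _ => (conj_eq_one_iff hS).1
  have h1 : E ≤ (MulAut.conj : S →* MulAut S).range := fun α hα => by
    by_cases e : α = 1
    · exact e ▸ one_mem _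
    · obtain ⟨x, rfl, -⟩ := exists_inner hS ho e (hE.2 α hα)
      exact ⟨x, rfl⟩
  rw [← map_comap_eq_self h1, card_map_of_injective hi]
  exact h _ (elemAb_of (fun a ha b hb => hi (by rw [map_mul, map_mul]; exact elemAb_comm hE ha hb))
    fun a ha => hi (by rw [map_pow, map_one]; exact hE.2 _ ha))

/-- a `p`-group without abelian subgroups of index `p` -/
theorem not_comm_of_index {R : Type*} [Group R] [Finite R] (hR : IsPGroup p R) {a b a' b' v w : R}
    (h1 : ⁅a, b⁆ * v = v * ⁅a, b⁆) (h2 : ⁅a', b'⁆ * v ≠ v * ⁅a', b'⁆) (h3 : ⁅a, b⁆ * w ≠ w * ⁅a, b⁆) {E : Subgroup R}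
    (hc : ∀ x ∈ E, ∀ y ∈ E, x * y = y * x) : ¬ E.index ∣ p := fun hi => by
  rcases (Nat.dvd_prime Fact.out).1 hi with e | e
  · rw [index_eq_one] at e
    exact h3 (hc _ (e ▸ mem_top _) _ (e ▸ mem_top _))
  obtain ⟨n, hn⟩ := hR.exists_card_eq
  have hn0 : n ≠ 0 := by
    rintro rfl
    have := E.index_dvd_card
    rw [e, hn, pow_zero, Nat.dvd_one] at this
    exact (Fact.out : p.Prime).one_lt.ne' this
  have : E.Normal := normal_of_index_eq_minFac_card (by rw [e, hn, (Fact.out : p.Prime).pow_minFac hn0])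
  have : IsCyclic (R ⧸ E) := isCyclic_of_prime_card (p := p) e
  have h4 : commutator R ≤ E := Normal.quotient_commutative_iff_commutator_le.1 inferInstance
  have h5 : ∀ x y : R, ⁅x, y⁆ ∈ E := fun x y => h4 (commutator_mem_commutator (mem_top x) (mem_top y))
  have h6 : E ≤ centralizer {⁅a, b⁆} := fun x hx => mem_centralizer_singleton_iff.2 (hc _ hx _ (h5 a b))
  have h7 := relIndex_mul_index h6
  rw [e] at h7
  rcases (Nat.dvd_prime Fact.out).1 (Dvd.intro _ h7) with e' | e'
  · rw [relIndex_eq_one] at e'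
    exact h2 (hc _ (h5 a' b') _ (e' (mem_centralizer_singleton_iff.2 h1.symm)))
  · rw [e', mul_eq_left₀ (Fact.out : p.Prime).ne_zero, index_eq_one] at h7
    exact h3 (mem_centralizer_singleton_iff.1 (h7 ▸ mem_top w)).symm

theorem card_le_of_comm {G : Type*} [Group G] [Finite G] {R : Subgroup G} {n : ℕ} (hR : Nat.card R = p ^ (n + 2))
    (hi : ¬ p ∣ R.index) {a b a' b' v w : G} (ha : a ∈ R) (hb : b ∈ R) (ha' : a' ∈ R) (hb' : b' ∈ R) (hv : v ∈ R)
    (hw : w ∈ R) (h1 : ⁅a, b⁆ * v = v * ⁅a, b⁆) (h2 : ⁅a', b'⁆ * v ≠ v * ⁅a', b'⁆) (h3 : ⁅a, b⁆ * w ≠ w * ⁅a, b⁆)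
    (E : Subgroup G) (hE : IsElementaryAbelian p E) : Nat.card E ≤ p ^ n := by
  obtain ⟨g, hg⟩ := exists_conj_le (IsPGroup.of_card hR) hi (elemAb_isPGroup hE)
  rw [← card_map_conj g]
  replace hE := elemAb_map hE (MulAut.conj g).toMonoidHom
  generalize E.map (MulAut.conj g).toMonoidHom = E' at *
  obtain ⟨r, hr⟩ := (elemAb_isPGroup hE).exists_card_eq
  rw [hr]
  refine Nat.pow_le_pow_right (Fact.out : p.Prime).pos (le_of_not_gt fun e => ?_)
  refine not_comm_of_index (IsPGroup.of_card hR) (a := ⟨a, ha⟩) (b := ⟨b, hb⟩) (a' := ⟨a', ha'⟩) (b' := ⟨b', hb'⟩)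
    (v := ⟨v, hv⟩) (w := ⟨w, hw⟩) (Subtype.ext h1) (fun e => h2 (congrArg Subtype.val e))
    (fun e => h3 (congrArg Subtype.val e)) (E := E'.subgroupOf R)
    (fun x hx y hy => Subtype.ext (elemAb_comm hE hx hy)) ?_
  have h4 := (E'.subgroupOf R).card_mul_index
  rw [hR, Nat.card_congr (subgroupOfEquivOfLe hg).toEquiv, hr] at h4
  obtain ⟨k, rfl⟩ := Nat.exists_eq_add_of_lt e
  rw [add_right_comm, pow_add, mul_assoc, pow_succ p (n + 1)] at h4
  exact Dvd.intro_left _ (mul_left_cancel₀ (pow_ne_zero _ (Fact.out : p.Prime).ne_zero) h4)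

end Rank

namespace F42

open Cfsg.Lie ChevalleyStructure.TwF4.Bits FourTwo.RankInv FourTwo.Base H326.F4C H134.Syl.F4

theorem wd_ne {w w' : List ℕ} (h : (okw w && okw w' && wordM w % 2 ^ 2704 != wordM w' % 2 ^ 2704) = true) :
    wd w ≠ wd w' := fun e => by
  rw [Bool.and_eq_true, Bool.and_eq_true, bne_iff_ne] at h
  refine h.2 (Nat.eq_of_testBit_eq fun i => ?_)
  rw [Nat.testBit_mod_two_pow, Nat.testBit_mod_two_pow]
  by_cases hi : i < 2704
  · rw [testBit_of_sem (M := wordM w) (M' := wordM w') (by rw [← coe_wd_sem h.1.1, ← coe_wd_sem h.1.2, e]) hi]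
  · simp [hi]

theorem wd_eq' {w w' : List ℕ} (h : (okw w && okw w' && eqM w w') = true) : wd w = wd w' := by
  rw [Bool.and_eq_true, Bool.and_eq_true] at h
  exact wd_eq_of h.1.1 h.1.2 h.2

theorem card_S : Nat.card LL = 3311126603366400 := FourTwo.Perf.card_LL

theorem center_S : center LL = ⊥ :=
  haveI : IsSimpleGroup LL := (S1054.result (F := ZMod 2) chevF4 (by simp)).1
  center_eq_bot LL (by rw [card_S]; norm_num)

theorem card_out : Nat.card (Out LL) = 2 := S2122.result (F := ZMod 2) 2 1 (by simp)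

theorem card_A : Nat.card (MulAut LL) = 6622253206732800 := by rw [card_aut center_S, card_S, card_out]

/-- the product of `w` and a conjugate has order 17 -/
def ok17 (w g : List ℕ) : Bool :=
  (fun u => (okw u && okw [] && wordM u % 2 ^ 2704 != wordM [] % 2 ^ 2704) && (okw (rpw u 17) && okw [] &&
    eqM (rpw u 17) [])) (w ++ (g ++ w ++ g.reverse))

theorem li_ok {p : ℕ} [Fact p.Prime] (hp : p = 3 ∨ p = 5 ∨ p = 7) {w : List ℕ} (g : List ℕ) (h : ok17 w g = true) :
    Li p (wd w) 8 := by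
  rw [ok17, Bool.and_eq_true] at h
  have h1 := wd_ne h.1
  have h2 := wd_eq' h.2
  rw [wd_rpw] at h2
  rw [wd_append, wd_append, wd_append, FourTwo.Facts2.wd_reverse, wd_nil] at h1 h2
  exact Li.two (wd g) (Li.of_prime (s := 17) (n := 16) center_S (by norm_num) (by omega) h1 h2 fun d _ _ => by
    rcases hp with rfl | rfl | rfl <;> interval_cases d <;> norm_num) (by norm_num)

theorem filter3 : (W16.filter fun p => p.1 % 3 == 0) = [(3, [20, 27]), (3, [22, 25]), (3, [23, 24, 20, 27]),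
    (9, [23, 25, 24, 22, 25, 20, 27]), (15, [24, 23, 25, 22, 20, 27]), (9, [14, 27, 33, 20, 27, 22, 25]),
    (15, [33, 14, 27, 20, 22, 25]), (21, w21), (21, w21')] := by decide +kernel

theorem li_three [Fact (Nat.Prime 3)] {x : LL} (h1 : x ≠ 1) (h2 : x ^ 3 = 1) : Li 3 x 8 := by
  obtain ⟨q, hq, h⟩ := exists_of_order (fun f h1 h2 _ hg => H197.Reg.exists_conj16 f h1 h2 hg) rfl
    (orderOf_eq_prime h2 h1)
  refine Li.of_isConj ?_ h
  rw [filter3] at hq
  simp only [List.mem_cons, List.not_mem_nil, or_false] at hq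
  rcases hq with rfl | rfl | rfl | rfl | rfl | rfl | rfl | rfl | rfl
  · exact li_ok (.inl rfl) [8, 45, 25, 10, 0] (by decide +kernel)
  · exact li_ok (.inl rfl) [38, 23, 22, 15, 13] (by decide +kernel)
  · exact li_ok (.inl rfl) [18, 5, 38] (by decide +kernel)
  · exact li_ok (.inl rfl) [9, 47] (by decide +kernel)
  · exact li_ok (.inl rfl) [39, 4] (by decide +kernel)
  · exact li_ok (.inl rfl) [39, 21] (by decide +kernel)
  · exact li_ok (.inl rfl) [39, 21] (by decide +kernel)
  · exact li_ok (.inl rfl) [26, 0] (by decide +kernel)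
  · exact li_ok (.inl rfl) [34, 3] (by decide +kernel)

theorem rank_three [Fact (Nat.Prime 3)] : ∀ E : Subgroup LL, IsElementaryAbelian 3 E → Nat.card E ≤ 3 ^ 4 := by
  have m2 : wd g2 ∈ R := subset_closure (by simp [S6, S5, S4, S3, S2])
  have m5 : wd g5 ∈ R := subset_closure (by simp [S6, S5])
  have m6 : wd g6 ∈ R := subset_closure (by simp [S6])
  refine card_le_of_comm (R := R) card_R (fun hd => ?_) m2 m5 m2 m6 m6 m5 ?_ ?_ ?_
  · have h5 := R.card_mul_index
    rw [card_R, card_S] at h5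
    omega
  all_goals simp only [commutatorElement_def, ← FourTwo.Facts2.wd_reverse, ← wd_append]
  · exact wd_eq' (by decide +kernel)
  · exact wd_ne (by decide +kernel)
  · exact wd_ne (by decide +kernel)

theorem row88 (p : ℕ) [hp : Fact p.Prime] (h2 : p ≠ 2) : Row88 p LL := by
  by_cases h3 : p = 3
  · subst h3
    have ho : ¬ 3 ∣ Nat.card (Out LL) := by rw [card_out]; norm_num
    refine row88_three fun E hE r _ hc => .inr fun d hd h1 => ?_
    have h4 := (Nat.pow_le_pow_iff_right (by norm_num)).1 (hc ▸ card_le_of_inner center_S ho rank_three E hE)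
    obtain ⟨x, rfl, h5, h6⟩ := exists_inner center_S ho h1 (hE.2 d hd)
    exact (li_three h5 h6).le (by omega)
  by_cases h5 : p = 5
  · subst h5
    refine row88_of_sylow' (by rw [card_A]; decide) (x := wd [22, 25, 20, 27]) ?_
      ((li_ok (.inr (.inl rfl)) [13, 45, 9] (by decide +kernel)).le (by decide))
    rw [← wd_rpw, ← wd_nil]
    exact wd_eq' (by decide +kernel)
  by_cases h7 : p = 7
  · subst h7
    refine row88_of_sylow' (by rw [card_A]; decide) (x := wd [24, 23, 22, 25]) ?_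
      ((li_ok (.inr (.inr rfl)) [36, 28, 8] (by decide +kernel)).le (by decide))
    rw [← wd_rpw, ← wd_nil]
    exact wd_eq' (by decide +kernel)
  refine row88_of_not_dvd fun e => ?_
  rw [card_A, small_of_ne h2 h3] at e
  have h4 := (Nat.mem_primeFactorsList (by norm_num)).2 ⟨hp.out, (dvd_pow_self p two_ne_zero).trans e⟩
  simp only [Nat.primeFactorsList_ofNat, List.mem_cons, List.not_mem_nil, or_false, h2, h3, h5, h7, false_or] at h4
  rcases h4 with rfl | rfl <;> norm_num at e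

theorem row (p : ℕ) [hp : Fact p.Prime] (h2 : p ≠ 2) : Row p LL :=
  ⟨row88 p h2, row89_of_not_dvd (by rwa [card_out, Nat.prime_dvd_prime_iff_eq hp.out Nat.prime_two])⟩

end F42

theorem boxF4 : Box fun K _ => Lie.IsoF4 K := boxF4_of (fun p _ F _ _ hF hp =>
  (F42.row p hp).of_equiv (ChevalleyStructure.FieldIso.groupEquiv Lie.chevF4
    (FiniteField.ringEquivOfCardEq (by rw [ZMod.card, hF]) : ZMod 2 ≃+* F)).symm) fun F _ _ => LB.f4_three F

end Cfsg.Agent.TwoF.XE
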