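import Cfsg.Agent.H96.Rad2.GTwoThree

/-!
# TwoF / XE : words for `G₂(3)` (helper98)

`b k`, `k < 8` : the elementary abelian subgroup `B` of the Sylow 2-subgroup `PS 5` that is centralised by `γ₁`.
-/

set_option autoImplicit false
set_option Elab.async false
set_option maxRecDepth 100000

namespace Cfsg.Agent.TwoF.XE.G23

open Subgroup Cfsg.Agent.GTwoThree.Model Cfsg.Agent.H96.Rad2.G23
open Cfsg.Agent.OddHalf.Small.G23Data Cfsg.Agent.OddHalf.Small.G23Check Cfsg.Agent.OddHalf.Small.G23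

attribute [local irreducible] Cfsg.Agent.GTwoThree.Model.ev Cfsg.Agent.GTwoThree.Model.y

/-- the elements of `B` -/
def bw (k : ℕ) : List ℕ :=
  [[], [4, 18, 4, 18], [4, 11, 13, 18], [4, 12, 10, 18], [5, 10, 12, 19], [5, 13, 11, 19], [0, 9, 14, 9, 23, 0],
    [4, 10, 13, 10, 19, 4]].getD k []

/-- the position of an element of `B` -/
def ix (i : ℕ) : ℕ := [0, 5, 19, 23, 24, 25, 26, 7].idxOf i

/-- elements of order three of `N(B)` that centralise `b i` -/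
def nw (i : ℕ) : List ℕ :=
  [[], [4, 11], [0, 3, 17, 4, 15, 20], [0, 2, 15, 4, 16, 23], [0, 2, 16, 5, 15, 21], [0, 3, 15, 5, 17, 23],
    [0, 2, 20, 8, 7, 18, 23], [0, 2, 15, 18, 2, 9, 18]].getD i []

/-- their action on `B` -/
def pm (i j : ℕ) : ℕ :=
  ([[], [0, 1, 6, 7, 2, 3, 4, 5], [0, 4, 2, 6, 5, 1, 7, 3], [0, 5, 6, 3, 1, 4, 7, 2], [0, 2, 3, 1, 4, 6, 7, 5],
    [0, 3, 1, 2, 6, 5, 7, 4], [0, 4, 5, 1, 3, 7, 6, 2], [0, 5, 3, 6, 1, 4, 2, 7]].getD i []).getD j j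

/-- generators -/
def gw (k : ℕ) : List ℕ :=
  if k < 8 then bw k else if k < 16 then [12] ++ (bw (k - 8) ++ iw [12])
  else if k < 24 then [0, 23, 0] ++ (bw (k - 16) ++ iw [0, 23, 0])
  else if k = 24 then g1 [12] ++ iw [12] else g1 [0, 23, 0] ++ iw [0, 23, 0]

theorem o_check : ∀ i < 64, (nec (ex (PW.getD i []) ++ g1 (ex (PW.getD i []))) [] ||
    (decide (ix i < 8) && eqc (ex (PW.getD i [])) (bw (ix i)))) = true := by decide +kernel

theorem m_check : ∀ i < 8, ∀ j < 8, eqc (bw i ++ bw j) (bw (i ^^^ j)) = true := by decide +kernel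

theorem b_check : ∀ i < 8, i ≠ 0 → nec (bw i) [] = true := by decide +kernel

theorem n_check : ∀ i < 8, ∀ j < 8, eqc (nw i ++ bw j) (bw (pm i j) ++ nw i) = true := by decide +kernel

theorem u_check : ∀ i < 8, (eqc (uW (bw i) [13, 11] ++ uW (bw i) [13, 11]) [] && nec (uW (bw i) [13, 11]) []) = true := by
  decide +kernel

theorem c_check : eqc ([12] ++ bw 1) (bw 1 ++ [12]) = true ∧ eqc ([0, 23, 0] ++ bw 6) (bw 6 ++ [0, 23, 0]) = true := by
  decide +kernel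

theorem g_check : eqc wa ([7, 25, 24, 14, 25, 10, 24, 25, 15, 24, 25, 24, 25].flatMap gw) = true ∧
    eqc wb ([4, 12].flatMap gw) = true ∧
    eqc wc ([17, 25, 24, 21, 25, 24, 25, 24, 18, 24, 18, 24, 25].flatMap gw) = true ∧
    eqc wd ([2, 13].flatMap gw) = true ∧ eqc wt ([20, 25, 13].flatMap gw) = true := by decide +kernel

theorem bw_let : ∀ i < 8, ∀ k ∈ bw i, k < 24 := by decide +kernel

theorem pm_lt : ∀ i < 8, pm i i = i ∧ ∀ j < 8, pm i j < 8 := by decide +kernel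

set_option synthInstance.maxSize 2000 in
theorem pm_check : ∀ i < 8, ∀ j < 8, ∀ k < 8,
    k ∈ [i ^^^ i, i, j, i ^^^ j, pm i j, i ^^^ pm i j, j ^^^ pm i j, (i ^^^ j) ^^^ pm i j] ∨ i = 0 ∨ j = 0 ∨ i = j := by
  decide +kernel

/-- the elements of `B` -/
noncomputable def b (k : ℕ) : ↥Gp := ev y (bw k)

theorem b_zero : b 0 = 1 := ev_nil y

theorem b_mul {i j : ℕ} (hi : i < 8) (hj : j < 8) : b i * b j = b (i ^^^ j) :=
  (ev_append y _ _).symm.trans (eq_of_eqc (m_check i hi j hj))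

theorem b_sq {i : ℕ} (hi : i < 8) : b i ^ 2 = 1 := by rw [pow_two, b_mul hi hi, Nat.xor_self, b_zero]

theorem b_ne {i : ℕ} (hi : i < 8) (h : i ≠ 0) : b i ≠ 1 := by
  rw [← ev_nil y]
  exact ne_of_nec (b_check i hi h)

theorem exists_b {s : ↥Gp} (hs : s ∈ PS 5) (h : s * γ1 s = 1) : ∃ k < 8, s = b k := by
  obtain ⟨i, hi, rfl⟩ := exists_P hs
  have hc := o_check i hi
  rw [Bool.or_eq_true, Bool.and_eq_true, decide_eq_true_eq] at hc
  rcases hc with hc | hc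
  · refine absurd ?_ (ne_of_nec hc)
    rw [ev_append, ← γ1_ev, ev_nil]
    exact h
  · exact ⟨_, hc.1, eq_of_eqc hc.2⟩

theorem conj_of {u v w : List ℕ} (h : eqc (u ++ v) (w ++ u) = true) : ev y u * ev y v * (ev y u)⁻¹ = ev y w := by
  have := eq_of_eqc h
  rw [ev_append, ev_append] at this
  rw [this, mul_inv_cancel_right]

theorem nw_conj {i j : ℕ} (hi : i < 8) (hj : j < 8) : ev y (nw i) * b j * (ev y (nw i))⁻¹ = b (pm i j) :=
  conj_of (n_check i hi j hj)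

theorem exists_comm {i : ℕ} (hi : i < 8) : ∃ g : ↥Gp, (MulAut.conj (b i) * γ1) g * g⁻¹ ≠ 1 ∧
    ((MulAut.conj (b i) * γ1) g * g⁻¹) ^ 2 = 1 := by
  have h1 : (MulAut.conj (b i) * γ1) (ev y [13, 11]) * (ev y [13, 11])⁻¹ = ev y (uW (bw i) [13, 11]) := by
    rw [MulAut.mul_apply, MulAut.conj_apply, γ1_ev, ← ev_iw (w := [13, 11]) (by decide), uW, ev_append, ev_append,
      ev_append, ev_iw (bw_let i hi), b]
    simp only [mul_assoc]
  have hc := u_check i hi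
  rw [Bool.and_eq_true] at hc
  refine ⟨ev y [13, 11], ?_, ?_⟩
  · rw [h1, ← ev_nil y]
    exact ne_of_nec hc.2
  · rw [h1, pow_two, ← ev_append, ← ev_nil y]
    exact eq_of_eqc hc.1

theorem exists_gen : ∃ g g' : ↥Gp, g * b 1 * g⁻¹ = b 1 ∧ g' * b 6 * g'⁻¹ = b 6 ∧ ∀ M : Subgroup ↥Gp,
    (∀ k < 8, b k ∈ M) → (∀ k < 8, g * b k * g⁻¹ ∈ M) → (∀ k < 8, g' * b k * g'⁻¹ ∈ M) → γ1 g * g⁻¹ ∈ M →
      γ1 g' * g'⁻¹ ∈ M → M = ⊤ := by
  refine ⟨ev y [12], ev y [0, 23, 0], conj_of c_check.1, conj_of c_check.2, fun M h1 h2 h3 h4 h5 => ?_⟩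
  have e1 := ev_iw (w := [12]) (by decide)
  have e2 := ev_iw (w := [0, 23, 0]) (by decide)
  have h6 : ∀ k, ev y (gw k) ∈ M := fun k => by
    unfold gw
    split_ifs with a1 a2 a3 a4
    · exact h1 k a1
    · rw [ev_append, ev_append, e1, ← mul_assoc]
      exact h2 _ (by omega)
    · rw [ev_append, ev_append, e2, ← mul_assoc]
      exact h3 _ (by omega)
    · rw [ev_append, e1, ← γ1_ev]
      exact h4
    · rw [ev_append, e2, ← γ1_ev]
      exact h5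
  have h7 : ∀ {w : List ℕ} (l : List ℕ), eqc w (l.flatMap gw) = true → ev y w ∈ M := fun l h => by
    rw [eq_of_eqc h]
    clear h
    induction l with
    | nil => exact ev_nil y ▸ one_mem M
    | cons k l ih =>
      rw [List.flatMap_cons, ev_append]
      exact mul_mem (h6 k) ih
  obtain ⟨a1, a2, a3, a4, a5⟩ := g_check
  exact eq_top (h7 _ a1) (h7 _ a2) (h7 _ a3) (h7 _ a4) (h7 _ a5)

end Cfsg.Agent.TwoF.XE.G23
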