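import Cfsg.Agent.TwoF.XE.G23A
import Cfsg.Agent.TwoF.XE.G23B
import Cfsg.Agent.H95.LSx.G23
import Cfsg.Agent.Mrg.Omega.TwoF.GTwoOut
import Cfsg.Agent.S2101

/-!
# TwoF / XE : the row of `G₂(3)` (helper98)

For `p = 2`: an involution inverts an element of order 13, so `c ≥ 6`.  The outer involutions of a Sylow 2-subgroup of
`Aut S` form the coset `B γ₁`; the group `A = ⟨B, γ₁⟩` of order 16 and two conjugates that share involutions with it
generate a group containing `Inn S`, so `c(A) ≥ 9`.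
-/

set_option autoImplicit false
set_option maxRecDepth 100000

namespace Cfsg.Agent.TwoF.XE.G23

open Subgroup Gen Cfsg.Lie Cfsg.Agent.GTwoThree.Model Cfsg.Agent.H96.Rad2 Cfsg.Agent.H96.Rad2.G23
open Cfsg.Agent.OddHalf.Small.G23Data Cfsg.Agent.OddHalf.Small.G23Check Cfsg.Agent.OddHalf.Small.G23

attribute [local irreducible] Cfsg.Agent.GTwoThree.Model.ev Cfsg.Agent.GTwoThree.Model.y b γ1

theorem finite_Gp : Finite ↥Gp := Nat.finite_of_card_ne_zero (by rw [card_G]; norm_num)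

theorem card_A : Nat.card (MulAut ↥Gp) = 2 ^ 7 * 66339 := by
  have := finite_Gp
  rw [card_aut center_Gp, card_G, card_out]
  norm_num

theorem zc : Zc 2 ↥Gp 3 := zc_of_cyclic (S2101.result (F := ZMod 3) rfl)

theorem lo_top : Lo 2 (Inn ↥Gp) 14 := by
  have := finite_Gp
  have : Nontrivial ↥Gp := Finite.one_lt_card_iff_nontrivial.1 (by rw [card_G]; norm_num)
  exact lo_inn (lb_of_ls H95.LSx.G23.ls_zmod Nat.prime_three (by norm_num))

theorem li_inv {t : ↥Gp} (h1 : t ≠ 1) (h2 : t ^ 2 = 1) : Li 2 t 6 := by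
  obtain ⟨c, hc⟩ := OddHalf.Small.G23.exists_conj (orderOf_eq_prime h2 h1)
  have h3 : Li 2 (ev y uZ) 12 := Li.of_prime center_Gp (s := 13) (by norm_num) (by norm_num)
    (fun e => by have := order_z; rw [e, orderOf_one] at this; omega) (order_z ▸ pow_orderOf_eq_one _)
    fun d _ _ => by interval_cases d <;> norm_num
  rw [eq_uZ] at h3
  have h4 : Li 2 (ev y wz) 6 := Le.comm _ h3 (by norm_num)
  exact Li.of_isConj (x := z) h4 (isConj_iff.2 ⟨c, hc⟩).symm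

theorem li_b {i : ℕ} (hi : i < 8) (h : i ≠ 0) : Li 2 (b i) 6 := li_inv (b_ne hi h) (b_sq hi)

theorem le_out {i : ℕ} (hi : i < 8) : Le 2 (MulAut.conj (b i) * γ1) 3 := by
  obtain ⟨g, h1, h2⟩ := exists_comm hi
  exact Le.comm g (li_inv h1 h2) (by norm_num)

variable {E : Subgroup (MulAut ↥Gp)}

theorem lo_nine {a : ℕ} (ha : a < 8) (h1 : MulAut.conj (b a) * γ1 ∈ E) (h2 : ∀ k < 8, MulAut.conj (b k) ∈ E) :
    Lo 2 E 9 := by
  have h3 : γ1 ∈ E := (mul_mem_cancel_left (h2 a ha)).1 h1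
  obtain ⟨g, g', e1, e2, h⟩ := exists_gen
  refine lo_three zc (by norm_num) (b_sq (by norm_num)) (li_b (by norm_num) one_ne_zero) (h2 1 (by norm_num)) e1
    (b_sq (by norm_num)) (li_b (by norm_num) (by norm_num)) (h2 6 (by norm_num)) e2 (lo_top.mono ?_) (by norm_num)
  have h4 := h ((E ⊔ cj E g ⊔ cj E g').comap MulAut.conj) (fun k hk => mem_sup_left (mem_sup_left (h2 k hk)))
    (fun k hk => mem_sup_left (mem_sup_right (mem_cj g (h2 k hk)))) (fun k hk => mem_sup_right (mem_cj g' (h2 k hk)))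
    (mem_sup_left (comm_cj g h3))
    ((sup_le_sup_right le_sup_left _ : E ⊔ cj E g' ≤ E ⊔ cj E g ⊔ cj E g') (comm_cj g' h3))
  rintro _ ⟨x, rfl⟩
  exact h4.ge (mem_top x)

theorem mem_xor {i j : ℕ} (hi : i < 8) (hj : j < 8) (h1 : MulAut.conj (b i) ∈ E) (h2 : MulAut.conj (b j) ∈ E) :
    MulAut.conj (b (i ^^^ j)) ∈ E := by
  rw [← b_mul hi hj, map_mul]
  exact mul_mem h1 h2

theorem lo_seven {a i j : ℕ} (ha : a < 8) (h1 : MulAut.conj (b a) * γ1 ∈ E) (hi : i < 8) (hj : j < 8) (hi0 : i ≠ 0)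
    (hj0 : j ≠ 0) (hij : i ≠ j) (h2 : MulAut.conj (b i) ∈ E) (h3 : MulAut.conj (b j) ∈ E) : Lo 2 E 7 := by
  refine lo_two zc (by norm_num) (b_sq hi) (li_b hi hi0) h2 ((nw_conj hi hi).trans (congrArg b (pm_lt i hi).1))
    (lo_nine ha (mem_sup_left h1) fun k hk => ?_) (by norm_num)
  have h4 := mem_cj (ev y (nw i)) h3
  rw [nw_conj hi hj] at h4
  have hm := (pm_lt i hi).2 j hj
  have a1 : MulAut.conj (b i) ∈ E ⊔ cj E (ev y (nw i)) := mem_sup_left h2
  have a2 : MulAut.conj (b j) ∈ E ⊔ cj E (ev y (nw i)) := mem_sup_left h3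
  have a3 : MulAut.conj (b (pm i j)) ∈ E ⊔ cj E (ev y (nw i)) := mem_sup_right h4
  have h5 := ((pm_check i hi j hj k hk).resolve_right (by omega))
  simp only [List.mem_cons, List.not_mem_nil, or_false] at h5
  rcases h5 with e | e | e | e | e | e | e | e <;> rw [e]
  exacts [mem_xor hi hi a1 a1, a1, a2, mem_xor hi hj a1 a2, a3, mem_xor hi hm a1 a3, mem_xor hj hm a2 a3,
    mem_xor (Nat.xor_lt_two_pow (n := 3) hi hj) hm (mem_xor hi hj a1 a2) a3]

/-- the Sylow 2-subgroup of `Aut S` -/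
noncomputable abbrev PA : Subgroup (MulAut ↥Gp) := OutTwo.T (PS 5) γ1 (fun _ hs => γ1_mem hs) γ1_mul_self

theorem conj_inj : Function.Injective (MulAut.conj : ↥Gp →* MulAut ↥Gp) :=
  (injective_iff_map_eq_one _).2 fun _ => (conj_eq_one_iff center_Gp).1

theorem out_sq (s : ↥Gp) : (MulAut.conj s * γ1) ^ 2 = MulAut.conj (s * γ1 s) := by
  rw [pow_two, mul_assoc, ← mul_assoc γ1, OutTwo.mul_conj, mul_assoc _ γ1, γ1_mul_self, mul_one, map_mul]

theorem PA_two : IsPGroup 2 PA := by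
  have h : ∀ s ∈ PS 5, MulAut.conj s ^ 2 ^ 3 = 1 := fun s hs => by
    obtain ⟨i, hi, rfl⟩ := exists_P hs
    rw [← map_pow, pe_pow hi, map_one]
  rintro ⟨_, s, hs, rfl | rfl⟩
  · exact ⟨3, Subtype.ext (h s hs)⟩
  · refine ⟨4, Subtype.ext ?_⟩
    show (MulAut.conj s * γ1) ^ 2 ^ 4 = 1
    rw [pow_succ' 2 3, pow_mul, out_sq, h _ (mul_mem hs (γ1_mem hs))]

theorem PA_index : ¬ 2 ∣ PA.index := fun e => by
  have : Finite (MulAut ↥Gp) := Nat.finite_of_card_ne_zero (by rw [card_A]; norm_num)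
  obtain ⟨k, hk⟩ := PA_two.exists_card_eq
  have h1 : (PS 5).map MulAut.conj < PA := by
    refine lt_of_le_of_ne ?_ fun e => ?_
    · rintro _ ⟨s, hs, rfl⟩
      exact ⟨s, hs, Or.inl rfl⟩
    · obtain ⟨s, -, hs⟩ := e.ge (⟨1, one_mem _, Or.inr (by rw [map_one, one_mul])⟩ : γ1 ∈ PA)
      exact γ1_outer s hs.symm
  have h2 : Nat.card ((PS 5).map MulAut.conj) < Nat.card PA :=
    lt_of_not_ge fun e => h1.ne (eq_of_le_of_card_ge h1.le e)
  rw [card_map_of_injective conj_inj, card_PS, hk, Nat.pow_lt_pow_iff_right one_lt_two] at h2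
  have h3 : 2 ^ 7 * 2 ∣ Nat.card (MulAut ↥Gp) := by
    rw [← PA.card_mul_index, hk]
    exact mul_dvd_mul (pow_dvd_pow 2 h2) e
  rw [card_A] at h3
  exact absurd h3 (by norm_num)

theorem lo_PA (h1 : E ≤ PA) (h2 : IsElementaryAbelian 2 E) (h3 : ¬ E ≤ Inn ↥Gp) {r : ℕ} (hr : 0 < r)
    (h4 : Nat.card E = 2 ^ r) : Lo 2 E (2 * r + 1) := by
  classical
  have h5 : ∀ s ∈ PS 5, MulAut.conj s * γ1 ∈ E → ∃ k < 8, s = b k := fun s hs h =>
    exists_b hs (conj_inj (by rw [← out_sq, h2.2 _ h, map_one]))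
  obtain ⟨α, hα, h6⟩ := SetLike.not_le_iff_exists.1 h3
  obtain ⟨s, hs, rfl | rfl⟩ := h1 hα
  · exact absurd ⟨s, rfl⟩ h6
  obtain ⟨a, ha, rfl⟩ := h5 s hs hα
  obtain ⟨J, hJ⟩ : ∃ J : Finset ℕ, ∀ k, k ∈ J ↔ k < 8 ∧ MulAut.conj (b k) ∈ E :=
    ⟨(Finset.range 8).filter fun k => MulAut.conj (b k) ∈ E, fun k => by rw [Finset.mem_filter, Finset.mem_range]⟩
  have h7 : ∀ k < 8, b k = b (k ^^^ a) * b a := fun k hk => by
    rw [b_mul (Nat.xor_lt_two_pow (n := 3) hk ha) ha, Nat.xor_xor_cancel_right]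
  have h8 : (E : Set (MulAut ↥Gp)) ⊆ (J.image (fun k => MulAut.conj (b k)) ∪
      J.image (fun k => MulAut.conj (b k) * (MulAut.conj (b a) * γ1)) : Finset _) := fun β hβ => by
    rw [Finset.mem_coe, Finset.mem_union, Finset.mem_image, Finset.mem_image]
    obtain ⟨t, ht, rfl | rfl⟩ := h1 hβ
    · obtain ⟨k, hk, e⟩ := h5 _ (mul_mem ht hs) (by rw [map_mul, mul_assoc]; exact mul_mem hβ hα)
      rw [h7 k hk, mul_left_inj] at e
      exact Or.inl ⟨_, (hJ _).2 ⟨Nat.xor_lt_two_pow (n := 3) hk ha, e ▸ hβ⟩, by rw [e]⟩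
    · obtain ⟨k, hk, rfl⟩ := h5 t ht hβ
      rw [h7 k hk, map_mul, mul_assoc] at hβ ⊢
      exact Or.inr ⟨_, (hJ _).2 ⟨Nat.xor_lt_two_pow (n := 3) hk ha, (mul_mem_cancel_right hα).1 hβ⟩, rfl⟩
  have h9 : 2 ^ r ≤ J.card + J.card := by
    rw [← h4, ← SetLike.coe_sort_coe, Nat.card_coe_set_eq]
    refine (Set.ncard_le_ncard h8 (Finset.finite_toSet _)).trans ?_
    rw [Set.ncard_coe_finset]
    exact (Finset.card_union_le _ _).trans (Nat.add_le_add Finset.card_image_le Finset.card_image_le)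
  have h10 : J ⊆ Finset.range 8 := fun k hk => Finset.mem_range.2 ((hJ k).1 hk).1
  have h11 := Finset.card_le_card h10
  have h12 := Finset.pred_card_le_card_erase (s := J) (a := 0)
  rw [Finset.card_range] at h11
  have h13 : r ≤ 4 := (Nat.pow_le_pow_iff_right one_lt_two).1 (by omega)
  interval_cases r
  · exact (le_out ha).lo hα
  · obtain ⟨i, hi⟩ := Finset.card_pos.1 (show 0 < (J.erase 0).card by omega)
    rw [Finset.mem_erase, hJ] at hi
    exact ((li_b hi.2.1 hi.1).lo hi.2.2).le (by norm_num)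
  · obtain ⟨i, hi, j, hj, e⟩ := Finset.one_lt_card.1 (show 1 < (J.erase 0).card by omega)
    rw [Finset.mem_erase, hJ] at hi hj
    exact lo_seven ha hα hi.2.1 hj.2.1 hi.1 hj.1 e hi.2.2 hj.2.2
  · refine lo_nine ha hα fun k hk => ((hJ k).1 ?_).2
    rw [Finset.eq_of_subset_of_card_le h10 (by rw [Finset.card_range]; omega)]
    exact Finset.mem_range.2 hk

theorem lo_out (h2 : IsElementaryAbelian 2 E) (h3 : ¬ E ≤ Inn ↥Gp) (r : ℕ) (hr : 0 < r) (h4 : Nat.card E = 2 ^ r) :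
    Lo 2 E (2 * r + 1) :=
  haveI := finite_Gp
  lo_of_sylow PA_two PA_index h2 fun _ a1 a2 a3 a4 => lo_PA a1 a2 (a4 h3) hr (a3.trans h4)

theorem rank_le (B : Subgroup ↥Gp) (h : ∀ x ∈ B, x * x = 1) : Nat.card B ≤ 2 ^ 3 :=
  @Omega.TwoF.RowGTwo.card_le (ZMod 3) _ _ (by decide) B h

theorem row_two : Row 2 ↥Gp := by
  refine ⟨row88_of_lo fun E hE r hr h => ?_, row89_of_lo fun E => lo_out⟩
  rw [small_two] at hr
  refine lo_out hE (fun e => ?_) r (by omega) h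
  have h1 := rank_le (E.comap MulAut.conj) fun x hx => conj_inj (by rw [map_mul, ← pow_two, hE.2 _ hx, map_one])
  rw [← card_map_of_injective (K := E.comap MulAut.conj) conj_inj, map_comap_eq_self e, h,
    Nat.pow_le_pow_iff_right one_lt_two] at h1
  omega

theorem row_Gp (p : ℕ) [hp : Fact p.Prime] (h3 : p ≠ 3) : Row p ↥Gp := by
  by_cases h2 : p = 2
  · subst h2
    exact row_two
  have := finite_Gp
  refine ⟨row88_of_not_dvd ?_, row89_of_not_dvd ?_⟩
  · rw [card_A, small_of_ne h2 h3]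
    intro e
    have h4 : p ∣ 2 ^ 7 * 3 ^ 6 * 7 * 13 := (dvd_pow_self p two_ne_zero).trans e
    simp only [hp.out.dvd_mul, hp.out.prime.dvd_pow_iff_dvd, Nat.prime_dvd_prime_iff_eq hp.out, ne_eq,
      OfNat.ofNat_ne_zero, not_false_eq_true, Nat.prime_two, Nat.prime_three, Nat.prime_seven,
      show Nat.Prime 13 by norm_num] at h4
    rcases h4 with ((rfl | rfl) | rfl) | rfl <;> simp_all
  · rw [card_out, Nat.prime_dvd_prime_iff_eq hp.out Nat.prime_two]
    exact h2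

/-- **the row of `G₂(3)`** -/
theorem row (p : ℕ) [Fact p.Prime] (F : Type) [Field F] [Fintype F] (h : Fintype.card F = 3) (hp : p ≠ 3) :
    Row p (Lie.chevG2.group F) :=
  (row_Gp p hp).of_equiv (ChevalleyStructure.FieldIso.groupEquiv chevG2
    (FiniteField.ringEquivOfCardEq (K := ZMod 3) (K' := F) (by rw [h]; rfl))).symm

end Cfsg.Agent.TwoF.XE.G23
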