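import Cfsg.Agent.TwoF.XE.Wt

/-!
# TwoF / XE : subgroups that share an element (helper98)

`cod_share` : two subgroups that cover the same inner automorphism.  `lo_two`, `lo_three` : a group and its conjugates
under centralisers.  `lo_inn` : the subgroups that cover `Inn S`.
-/

set_option autoImplicit false

namespace Cfsg.Agent.TwoF.XE.G23

open Module Gen Subgroup
open scoped commutatorElement

variable {p : ℕ} [Fact p.Prime] {S : Type} [Group S]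

/-- the conjugate of a group of automorphisms under an element -/
abbrev cj (E : Subgroup (MulAut S)) (g : S) : Subgroup (MulAut S) := E.map (MulAut.conj (MulAut.conj g)).toMonoidHom

theorem mem_cj {E : Subgroup (MulAut S)} (g : S) {x : S} (h : MulAut.conj x ∈ E) :
    MulAut.conj (g * x * g⁻¹) ∈ cj E g := ⟨_, h, by rw [map_mul, map_mul, map_inv]; rfl⟩

theorem comm_cj {E : Subgroup (MulAut S)} (g : S) {α : MulAut S} (h : α ∈ E) :
    MulAut.conj (α g * g⁻¹) ∈ E ⊔ cj E g := by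
  have h1 : MulAut.conj g * α⁻¹ * (MulAut.conj g)⁻¹ ∈ cj E g := ⟨_, inv_mem h, rfl⟩
  have h2 := mul_mem (mem_sup_left h : α ∈ E ⊔ cj E g) (mem_sup_right h1)
  rw [map_mul, map_inv, conj_apply]
  simpa only [mul_assoc] using h2

section

variable {Y : Type} [Group Y] [Finite Y] {V : Type} [AddCommGroup V] [Module (ZMod p) V] [Finite V]
  {K : Subgroup Y} {ρ : Representation (ZMod p) Y V} {π : K →* S} {φ : Y →* MulAut S}

theorem cod_share {z m n : ℕ} (hz : Zc p S z) (H : Sit p K ρ π φ) (hc : m.Coprime z) {x : S} (hx : x ^ m = 1)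
    (h : Li p x n) {D D' : Subgroup Y} (h1 : MulAut.conj x ∈ D.map φ) (h2 : MulAut.conj x ∈ D'.map φ) :
    cod ρ (D ⊔ D') + n ≤ cod ρ D + cod ρ D' := by
  obtain ⟨y, hy, e⟩ := h1
  obtain ⟨y', hy', e'⟩ := h2
  obtain ⟨u, hu, a1, a2⟩ := hz.exists_lift H hc (y := y) (by rw [e, ← map_pow, hx, map_one])
  obtain ⟨u', hu', b1, b2⟩ := hz.exists_lift H hc (y := y') (by rw [e', ← map_pow, hx, map_one])
  obtain rfl : u = u' := hz.lift_unique H hc ⟨x, (a1.trans e).symm⟩ (by rw [a1, b1, e, e']) a2 b2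
  have h3 := h.elt H (a1.trans e)
  have h4 := XL.cod_le_of_mem (ρ := ρ) (mem_inf.2 ⟨zpowers_le.2 hy hu, zpowers_le.2 hy' hu'⟩)
  have h5 := cod_sup_add_inf (ρ := ρ) D D'
  omega

omit [Finite Y] [Finite V] in
theorem exists_cj (H : Sit p K ρ π φ) {E : Subgroup (MulAut S)} {D : Subgroup Y} (h : E ≤ D.map φ) (g : S) :
    ∃ D' : Subgroup Y, cod ρ D' = cod ρ D ∧ cj E g ≤ D'.map φ := by
  obtain ⟨u, rfl⟩ := H.surj g
  refine ⟨_, cod_conj (u : Y) D, ?_⟩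
  rintro _ ⟨a, ha, rfl⟩
  obtain ⟨y, hy, rfl⟩ := h ha
  refine ⟨_, ⟨y, hy, rfl⟩, ?_⟩
  show φ (u * y * (u : Y)⁻¹) = MulAut.conj (π u) * φ y * (MulAut.conj (π u))⁻¹
  rw [map_mul, map_mul, map_inv, H.toFrm.φ_coe]

end

variable {E : Subgroup (MulAut S)} {z m n N c : ℕ} {x x' g g' : S}

theorem lo_two (hz : Zc p S z) (hc : m.Coprime z) (hx : x ^ m = 1) (h : Li p x n) (hE : MulAut.conj x ∈ E)
    (hg : g * x * g⁻¹ = x) (hF : Lo p (E ⊔ cj E g) N) (hlt : 2 * (c - 1) < N + n) : Lo p E c :=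
  fun Y _ _ V _ _ _ K ρ π φ H D hD => by
    obtain ⟨D', e, h1⟩ := exists_cj H hD g
    have h2 := cod_share hz H hc hx h (hD hE) (h1 (hg ▸ mem_cj g hE))
    have h3 := hF Y V K ρ π φ H (D ⊔ D') (by rw [Subgroup.map_sup]; exact sup_le_sup hD h1)
    omega

theorem lo_three (hz : Zc p S z) (hc : m.Coprime z) (hx : x ^ m = 1) (h : Li p x n) (hE : MulAut.conj x ∈ E)
    (hg : g * x * g⁻¹ = x) (hx' : x' ^ m = 1) (h' : Li p x' n) (hE' : MulAut.conj x' ∈ E) (hg' : g' * x' * g'⁻¹ = x')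
    (hF : Lo p (E ⊔ cj E g ⊔ cj E g') N) (hlt : 3 * (c - 1) < N + 2 * n) : Lo p E c :=
  fun Y _ _ V _ _ _ K ρ π φ H D hD => by
    obtain ⟨D', e, h1⟩ := exists_cj H hD g
    obtain ⟨D'', e', h1'⟩ := exists_cj H hD g'
    have h2 := cod_share hz H hc hx h (hD hE) (h1 (hg ▸ mem_cj g hE))
    have h2' := cod_share hz H hc hx' h' (map_mono (le_sup_left : D ≤ D ⊔ D') (hD hE')) (h1' (hg' ▸ mem_cj g' hE'))
    have h3 := hF Y V K ρ π φ H (D ⊔ D' ⊔ D'') (by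
      rw [Subgroup.map_sup, Subgroup.map_sup]; exact sup_le_sup (sup_le_sup hD h1) h1')
    omega

theorem lo_inn (h : LB p S n) : Lo p (Inn S) n := fun Y _ _ V _ _ _ K ρ π φ H D hD => by
  have h1 : ∀ k ∈ K, ∃ a ∈ D, a ∈ K ∧ ∃ c ∈ centralizer (K : Set Y), k = a * c := fun k hk => by
    obtain ⟨a, ha, e⟩ := hD (H.toFrm.mem_inn_iff.2 hk)
    exact ⟨a, ha, H.toFrm.mem_inn_iff.1 (e ▸ H.toFrm.mem_inn_iff.2 hk), a⁻¹ * k,
      H.toFrm.φ_eq_one_iff.1 (by rw [map_mul, map_inv, e, inv_mul_cancel]), by group⟩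
  have h2 : K ≤ D := by
    rw [← isPerfect_iff.1 H.toStp.perfect, commutator_le]
    intro k hk k' hk'
    obtain ⟨a, ha, ha', c, hc, rfl⟩ := h1 k hk
    obtain ⟨b, hb, hb', d, hd, rfl⟩ := h1 k' hk'
    have e1 : c * (b * d) * c⁻¹ = b * d := by rw [← hc _ hk', mul_inv_cancel_right]
    have e2 : d * a⁻¹ * d⁻¹ = a⁻¹ := by rw [← hd _ (inv_mem ha'), mul_inv_cancel_right]
    rw [show ⁅a * c, b * d⁆ = a * (c * (b * d) * c⁻¹) * a⁻¹ * (b * d)⁻¹ by rw [commutatorElement_def]; group, e1,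
      show a * (b * d) * a⁻¹ * (b * d)⁻¹ = a * b * (d * a⁻¹ * d⁻¹) * b⁻¹ by group, e2]
    exact mul_mem (mul_mem (mul_mem ha hb) (inv_mem ha)) (inv_mem hb)
  rw [H.toStp.cod_of_le h2]
  exact h.le H

end Cfsg.Agent.TwoF.XE.G23
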