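import Cfsg.Agent.TwoF.XE.Bridge
import Cfsg.Agent.TwoF.XL.Abs
import Cfsg.Agent.TwoF.Gen.BCub

/-!
# TwoF : a calculus of lower bounds for `cod`, formulated inside `Aut S` (helper4)

`Lo p E n` : every subgroup of `Y` that covers `E ≤ Aut S` has codimension at least `n`, in every setting.
`Le p α n` for an automorphism, `Li p x n` for an element of `S`.  `Zc p S z` : the centres that occur have order
dividing `z`.
-/

set_option autoImplicit false
set_option maxHeartbeats 400000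

namespace Cfsg.Agent.TwoF.XE

open Module Gen Subgroup

variable {p : ℕ} [Fact p.Prime] {S : Type} [Group S]

theorem _root_.Cfsg.Agent.TwoF.Sit.twist {Y : Type} [Group Y] {V : Type} [AddCommGroup V] [Module (ZMod p) V]
    {K : Subgroup Y} {ρ : Representation (ZMod p) Y V} {π : K →* S} {φ : Y →* MulAut S} (H : Sit p K ρ π φ)
    (β : MulAut S) : Sit p K ρ (β.toMonoidHom.comp π) ((MulAut.conj β).toMonoidHom.comp φ) where
  toStp := H.toStp
  surj := β.surjective.comp H.surj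
  ker_π := by
    rw [← MonoidHom.comap_ker, (MonoidHom.ker_eq_bot_iff _).2 β.injective, MonoidHom.comap_bot, H.ker_π]
  conj y x x' e := by
    show β (φ y (β.symm (β (π x)))) = β (π x')
    rw [β.symm_apply_apply, H.conj y x x' e]
  ker_φ := by
    rw [← MonoidHom.comap_ker, (MonoidHom.ker_eq_bot_iff _).2 (MulAut.conj β).injective, MonoidHom.comap_bot, H.ker_φ]

/-- lower bound for the subgroups that cover `E` -/
def Lo (p : ℕ) [Fact p.Prime] {S : Type} [Group S] (E : Subgroup (MulAut S)) (n : ℕ) : Prop :=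
  ∀ (Y : Type) [Group Y] [Finite Y] (V : Type) [AddCommGroup V] [Module (ZMod p) V] [Finite V]
    (K : Subgroup Y) (ρ : Representation (ZMod p) Y V) (π : K →* S) (φ : Y →* MulAut S), Sit p K ρ π φ →
      ∀ A : Subgroup Y, E ≤ A.map φ → n ≤ cod ρ A

/-- lower bound for an automorphism -/
abbrev Le (p : ℕ) [Fact p.Prime] {S : Type} [Group S] (α : MulAut S) (n : ℕ) : Prop := Lo p (zpowers α) n

/-- lower bound for an element -/
abbrev Li (p : ℕ) [Fact p.Prime] {S : Type} [Group S] (x : S) (n : ℕ) : Prop := Le p (MulAut.conj x) n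

/-- the centres have order dividing `z` -/
def Zc (p : ℕ) (S : Type) [Group S] (z : ℕ) : Prop :=
  ∀ (K : Type) [Group K] [Finite K] (π : K →* S), IsStemExtension π → ¬ p ∣ Nat.card π.ker → Nat.card π.ker ∣ z

omit [Fact p.Prime] in
theorem zc_of_cyclic {z : ℕ} (h : HasCyclicSchurMultiplier S z) : Zc p S z :=
  fun K _ _ π h1 _ => by
    obtain ⟨f, hf⟩ := h.2 K π h1
    have := card_dvd_of_surjective f hf
    rwa [Nat.card_congr Multiplicative.toAdd, Nat.card_zmod] at this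

omit [Fact p.Prime] in
theorem zc_of_mult {A : Type*} [CommGroup A] (h : HasSchurMultiplier S A) : Zc p S (Nat.card A) :=
  fun K _ _ π h1 _ => by
    obtain ⟨f, hf⟩ := h.2 K π h1
    exact card_dvd_of_surjective f hf

omit [Fact p.Prime] in
theorem Zc.of_equiv {T : Type} [Group T] {z : ℕ} (h : Zc p T z) (e : S ≃* T) : Zc p S z := fun K _ _ π h1 h2 => by
  have h3 : (e.toMonoidHom.comp π).ker = π.ker := by
    rw [← MonoidHom.comap_ker, (MonoidHom.ker_eq_bot_iff _).2 e.injective, MonoidHom.comap_bot]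
  have := h K (e.toMonoidHom.comp π) ⟨e.surjective.comp h1.1, h3 ▸ h1.2.1, h3 ▸ h1.2.2⟩ (h3 ▸ h2)
  rwa [h3] at this

variable {E E' : Subgroup (MulAut S)} {n c : ℕ} {α β : MulAut S} {x y : S}

theorem Lo.mono (h : Lo p E n) (hE : E ≤ E') : Lo p E' n :=
  fun Y _ _ V _ _ _ K ρ π φ H A hA => h Y V K ρ π φ H A (hE.trans hA)

theorem Lo.le (h : Lo p E n) (hc : c ≤ n) : Lo p E c :=
  fun Y _ _ V _ _ _ K ρ π φ H A hA => hc.trans (h Y V K ρ π φ H A hA)

theorem Lo.of_conj (β : MulAut S) (h : Lo p (E.map (MulAut.conj β).toMonoidHom) n) : Lo p E n :=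
  fun Y _ _ V _ _ _ K ρ π φ H A hA => h Y V K ρ _ _ (H.twist β) A (by rw [← map_map]; exact map_mono hA)

theorem Le.lo (h : Le p α n) (hα : α ∈ E) : Lo p E n := h.mono (zpowers_le.2 hα)

theorem le_of_elt (h : ∀ (Y : Type) [Group Y] [Finite Y] (V : Type) [AddCommGroup V] [Module (ZMod p) V] [Finite V]
    (K : Subgroup Y) (ρ : Representation (ZMod p) Y V) (π : K →* S) (φ : Y →* MulAut S), Sit p K ρ π φ →
      ∀ y, φ y = α → n ≤ cod ρ (zpowers y)) : Le p α n := fun Y _ _ V _ _ _ K ρ π φ H A hA => by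
  obtain ⟨y, hy, e⟩ := hA (mem_zpowers α)
  exact (h Y V K ρ π φ H y e).trans (XL.cod_le_of_mem hy)

theorem Le.elt (h : Le p α n) {Y : Type} [Group Y] [Finite Y] {V : Type} [AddCommGroup V] [Module (ZMod p) V]
    [Finite V] {K : Subgroup Y} {ρ : Representation (ZMod p) Y V} {π : K →* S} {φ : Y →* MulAut S}
    (H : Sit p K ρ π φ) {y : Y} (hy : φ y = α) : n ≤ cod ρ (zpowers y) :=
  h Y V K ρ π φ H _ (zpowers_le.2 ⟨y, mem_zpowers y, hy⟩)

theorem Le.of_conj (β : MulAut S) (h : Le p (β * α * β⁻¹) n) : Le p α n :=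
  Lo.of_conj β (by rwa [← zpowers_conj])

theorem Le.conj (h : Le p α n) (β : MulAut S) : Le p (β * α * β⁻¹) n :=
  Le.of_conj β⁻¹ (by rwa [show β⁻¹ * (β * α * β⁻¹) * β⁻¹⁻¹ = α by group])

theorem Le.of_isConj (h : Le p α n) (e : IsConj α β) : Le p β n := by
  obtain ⟨g, rfl⟩ := isConj_iff.1 e
  exact h.conj g

theorem Le.of_pow (k : ℕ) (h : Le p (α ^ k) n) : Le p α n := h.lo (pow_mem (mem_zpowers α) k)

theorem Le.inv (h : Le p α n) : Le p α⁻¹ n := h.lo (by rw [zpowers_inv]; exact mem_zpowers α)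

theorem conj_apply (β : MulAut S) (x : S) : MulAut.conj (β x) = β * MulAut.conj x * β⁻¹ :=
  MulEquiv.ext fun y => by simp

theorem Li.aut (h : Li p x n) (β : MulAut S) : Li p (β x) n := by
  rw [Li, conj_apply]
  exact h.conj β

theorem Li.conj (h : Li p x n) (g : S) : Li p (g * x * g⁻¹) n := h.aut (MulAut.conj g)

theorem Li.of_isConj (h : Li p x n) (e : IsConj x y) : Li p y n := by
  obtain ⟨g, rfl⟩ := isConj_iff.1 e
  exact h.conj g

theorem Li.of_mul_eq (h : Li p x n) {g : S} (e : g * x = y * g) : Li p y n :=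
  h.of_isConj (isConj_iff.2 ⟨g, by rw [e, mul_inv_cancel_right]⟩)

theorem Li.of_pow (k : ℕ) (h : Li p (x ^ k) n) : Li p x n := Le.of_pow k (by rwa [← map_pow])

theorem Li.of_mem (h : Li p x n) (e : x ∈ zpowers y) : Li p y n := by
  obtain ⟨k, rfl⟩ := e
  exact h.lo (by rw [map_zpow]; exact zpow_mem (mem_zpowers _) k)

theorem Li.inv (h : Li p x n) : Li p x⁻¹ n := by
  rw [Li, map_inv]
  exact Le.inv h

/-! ### products of conjugates -/

theorem Le.of_prod (l : List (S × ℕ))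
    (h : Le p (l.map fun q => MulAut.conj q.1 * α ^ q.2 * (MulAut.conj q.1)⁻¹).prod n) (hc : l.length * (c - 1) < n) :
    Le p α c := le_of_elt fun Y _ _ V _ _ _ K ρ π φ H y hy => by
  have key : ∀ l : List (S × ℕ), ∃ w : Y, φ w = (l.map fun q => MulAut.conj q.1 * α ^ q.2 * (MulAut.conj q.1)⁻¹).prod ∧
      cod ρ (zpowers w) ≤ l.length * cod ρ (zpowers y) := by
    intro l
    induction l with
    | nil => exact ⟨1, map_one φ, by rw [zpowers_one_eq_bot, cod_bot]; exact Nat.zero_le _⟩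
    | cons q l ih =>
      obtain ⟨w, h1, h2⟩ := ih
      obtain ⟨g, hg⟩ := H.surj q.1
      refine ⟨g * y ^ q.2 * (g : Y)⁻¹ * w, ?_, (cod_zpowers_mul_le _ _).trans ?_⟩
      · rw [List.map_cons, List.prod_cons, map_mul, map_mul, map_mul, map_inv, map_pow, h1, hy, H.toFrm.φ_coe, hg]
      · rw [cod_zpowers_conj, List.length_cons, add_mul, one_mul, add_comm]
        exact Nat.add_le_add h2 (XL.cod_pow_le _ _)
  obtain ⟨w, h1, h2⟩ := key l
  have h3 := Nat.lt_of_mul_lt_mul_left (hc.trans_le ((h.elt H h1).trans h2))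
  omega

theorem Li.of_prod (l : List (S × ℕ)) (h : Li p (l.map fun q => q.1 * x ^ q.2 * q.1⁻¹).prod n)
    (hc : l.length * (c - 1) < n) : Li p x c := by
  refine Le.of_prod l ?_ hc
  rw [Li, map_list_prod, List.map_map] at h
  rwa [List.map_congr_left (g := MulAut.conj ∘ fun q : S × ℕ => q.1 * x ^ q.2 * q.1⁻¹) fun q _ => by
    simp only [Function.comp_apply, map_mul, map_pow, map_inv]]

theorem Li.two (g : S) (h : Li p (x * (g * x * g⁻¹)) n) (hc : 2 * (c - 1) < n) : Li p x c :=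
  Li.of_prod [(1, 1), (g, 1)] (by simpa using h) hc

theorem Li.three (g g' : S) (h : Li p (x * (g * x * g⁻¹) * (g' * x * g'⁻¹)) n) (hc : 3 * (c - 1) < n) : Li p x c :=
  Li.of_prod [(1, 1), (g, 1), (g', 1)] (by simpa [mul_assoc] using h) hc

/-- commutators -/
theorem Le.comm (g : S) (h : Li p (α g * g⁻¹) n) (hc : 2 * (c - 1) < n) : Le p α c :=
  le_of_elt fun Y _ _ V _ _ _ K ρ π φ H y hy => by
    obtain ⟨u, rfl⟩ := H.surj g
    have h1 := h.elt H (y := y * u * y⁻¹ * (u : Y)⁻¹) (by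
      rw [map_mul, map_mul, map_mul, map_inv, map_inv, hy, H.toFrm.φ_coe, map_mul, conj_apply, map_inv])
    have h2 := cod_zpowers_commutator_le (ρ := ρ) y u
    omega

/-- subgroups of the group generated by conjugates -/
theorem Lo.of_gen (s : Finset S) (h : Lo p (⨆ g ∈ s, E.map (MulAut.conj (MulAut.conj g)).toMonoidHom) n)
    (hc : s.card * (c - 1) < n) : Lo p E c := fun Y _ _ V _ _ _ K ρ π φ H A hA => by
  choose u hu using H.surj
  have h1 := h Y V K ρ π φ H (⨆ g ∈ s, A.map (MulAut.conj (u g : Y)).toMonoidHom) (iSup₂_le fun g hg => by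
    refine le_trans ?_ (map_mono (le_iSup₂ (f := fun g (_ : g ∈ s) => A.map (MulAut.conj (u g : Y)).toMonoidHom) g hg))
    rintro _ ⟨a, ha, rfl⟩
    obtain ⟨y, hy, rfl⟩ := hA ha
    refine ⟨_, ⟨y, hy, rfl⟩, ?_⟩
    show φ (u g * y * (u g : Y)⁻¹) = MulAut.conj g * φ y * (MulAut.conj g)⁻¹
    rw [map_mul, map_mul, map_inv, H.toFrm.φ_coe, hu])
  have h2 := cod_biSup_le (ρ := ρ) s fun g => A.map (MulAut.conj (u g : Y)).toMonoidHom
  simp only [cod_conj, Finset.sum_const, smul_eq_mul] at h2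
  have h3 := Nat.lt_of_mul_lt_mul_left (hc.trans_le (h1.trans h2))
  omega

/-! ### elements of order prime to `p` -/

theorem Le.of_prime {s : ℕ} (hs : s.Prime) (hsp : s ≠ p) (h1 : α ≠ 1) (h2 : α ^ s = 1)
    (hn : ∀ d, 0 < d → d < n → p ^ d % s ≠ 1 % s) : Le p α n := le_of_elt fun Y _ _ V _ _ _ K ρ π φ H y hy => by
  have : Fact s.Prime := ⟨hs⟩
  have h3 : s ∣ Nat.card (zpowers y) := by
    rw [Nat.card_zpowers, ← orderOf_eq_prime h2 h1, ← hy]
    exact orderOf_map_dvd φ y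
  obtain ⟨u, hu⟩ := exists_prime_orderOf_dvd_card' s h3
  refine le_trans (le_cod_of_order (s := s) (X := zpowers (u : Y)) H.faithful ?_ (by rwa [Nat.card_zmod])
    (IsPGroup.of_card (n := 1) (by rw [Nat.card_zpowers, orderOf_coe, hu, pow_one])) fun e => ?_)
    (XL.cod_le_of_mem u.2)
  · rw [Nat.card_zmod]
    exact fun e => hsp ((Nat.prime_dvd_prime_iff_eq hs Fact.out).1 e)
  · rw [show u = 1 from Subtype.ext (zpowers_eq_bot.1 e), orderOf_one] at hu
    exact hs.one_lt.ne hu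

theorem conj_eq_one_iff (hS : center S = ⊥) : MulAut.conj x = 1 ↔ x = 1 :=
  ⟨fun e => by
    rw [← mem_bot, ← hS, mem_center_iff]
    intro g
    have := congrArg (fun α : MulAut S => α g) e
    simp only [MulAut.conj_apply, MulAut.one_apply] at this
    rw [mul_inv_eq_iff_eq_mul] at this
    exact this.symm, fun e => by rw [e, map_one]⟩

theorem Li.of_prime (hS : center S = ⊥) {s : ℕ} (hs : s.Prime) (hsp : s ≠ p) (h1 : x ≠ 1) (h2 : x ^ s = 1)
    (hn : ∀ d, 0 < d → d < n → p ^ d % s ≠ 1 % s) : Li p x n :=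
  Le.of_prime hs hsp (fun e => h1 ((conj_eq_one_iff hS).1 e)) (by rw [← map_pow, h2, map_one]) hn

/-- all elements of order `s`, from a Sylow `s`-subgroup -/
theorem li_of_sylow [Finite S] {s : ℕ} [Fact s.Prime] {P : Subgroup S} (hP : IsPGroup s P) (hi : ¬ s ∣ P.index)
    (h : ∀ y ∈ P, y ≠ 1 → y ^ s = 1 → Li p y n) (h1 : x ≠ 1) (h2 : x ^ s = 1) : Li p x n := by
  obtain ⟨Q, hQ⟩ := (elemAb_isPGroup (elemAb_zpowers h2)).exists_le_sylow
  obtain ⟨g, hg⟩ := MulAction.exists_smul_eq S Q (hP.toSylow hi)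
  have h3 : g * x * g⁻¹ ∈ P := by
    have : g * x * g⁻¹ ∈ ((g • Q : Sylow s S) : Subgroup S) := ⟨x, hQ (mem_zpowers x), rfl⟩
    rwa [hg] at this
  exact (h _ h3 (fun e => h1 (by simpa using e)) (by rw [conj_pow, h2]; simp)).of_isConj
    (isConj_iff.2 ⟨g⁻¹, by group⟩)

/-- an element a power of which has order `s` -/
theorem Li.of_ord {s : ℕ} (h : ∀ y : S, y ≠ 1 → y ^ s = 1 → Li p y n) (k : ℕ) (h1 : x ^ k ≠ 1) (h2 : x ^ (k * s) = 1) :
    Li p x n := Li.of_pow k (h _ h1 (by rw [← pow_mul, h2]))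

/-! ### the rows -/

theorem exists_conj_le {G : Type*} [Group G] [Finite G] {P E : Subgroup G} (hP : IsPGroup p P) (hi : ¬ p ∣ P.index)
    (hE : IsPGroup p E) : ∃ g, E.map (MulAut.conj g).toMonoidHom ≤ P := by
  obtain ⟨Q, hQ⟩ := hE.exists_le_sylow
  obtain ⟨g, hg⟩ := MulAction.exists_smul_eq G Q (hP.toSylow hi)
  refine ⟨g, ?_⟩
  rintro _ ⟨x, hx, rfl⟩
  have : g * x * g⁻¹ ∈ ((g • Q : Sylow p G) : Subgroup G) := ⟨x, hQ hx, rfl⟩
  rwa [hg] at this

theorem not_le_inn_conj (β : MulAut S) (h : ¬ E ≤ Inn S) : ¬ E.map (MulAut.conj β).toMonoidHom ≤ Inn S :=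
  fun e => h fun α hα => by
    obtain ⟨g, hg⟩ := e ⟨α, hα, rfl⟩
    refine ⟨β⁻¹ g, ?_⟩
    rw [conj_apply, hg]
    show β⁻¹ * (β * α * β⁻¹) * β⁻¹⁻¹ = α
    group

theorem row88_of_lo (h : ∀ E : Subgroup (MulAut S), IsElementaryAbelian p E → ∀ r, small p < r → Nat.card E = p ^ r →
    Lo p E (2 * r + 1)) : Row88 p S := row88_of_sit fun Y _ _ V _ _ _ K ρ π φ H A hA => by
  by_cases hc : Cub ρ A
  · exact ⟨A, hA, hc⟩
  obtain ⟨r, -, h1, h2⟩ := hA.exists_card
  have h3 := small_lt_cod hA.1 hc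
  have := h _ (elemAb_map hA.1 φ) r (by omega) ((H.toStp.card_map H.toFrm (elemAb_isPGroup hA.1)).trans h1)
    Y V K ρ π φ H A le_rfl
  omega

theorem row89_of_lo (h : ∀ E : Subgroup (MulAut S), IsElementaryAbelian p E → ¬ E ≤ Inn S → ∀ r, 0 < r →
    Nat.card E = p ^ r → Lo p E (2 * r + 1)) : Row89 p S :=
  row89_of_sit fun Y _ _ V _ _ _ K ρ π φ H A hA _ _ _ hK => by
    obtain ⟨r, h0, h1, h2⟩ := hA.exists_card
    have := h _ (elemAb_map hA.1 φ) (fun e => hK fun a ha => H.toFrm.mem_inn_iff.1 (e ⟨a, ha, rfl⟩)) r h0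
      ((H.toStp.card_map H.toFrm (elemAb_isPGroup hA.1)).trans h1) Y V K ρ π φ H A le_rfl
    omega

theorem noOff_of_lo (h : ∀ E : Subgroup (MulAut S), IsElementaryAbelian p E → ∀ r, 0 < r →
    Nat.card E = p ^ r → Lo p E (2 * r + 1)) : NoOff p S :=
  noOff_of_sit fun Y _ _ V _ _ _ K ρ π φ H A hA => by
    obtain ⟨r, h0, h1, h2⟩ := hA.exists_card
    have := h _ (elemAb_map hA.1 φ) r h0
      ((H.toStp.card_map H.toFrm (elemAb_isPGroup hA.1)).trans h1) Y V K ρ π φ H A le_rfl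
    omega

/-- `p = 2`: every element `d` of a non-cubic group has `c(d) + 3 ≤ c(A)` -/
theorem row88_two (h : ∀ E : Subgroup (MulAut S), IsElementaryAbelian 2 E → ∀ r, 3 < r → Nat.card E = 2 ^ r →
    Lo 2 E (2 * r + 1) ∨ ∃ d ∈ E, Le 2 d (2 * r - 2)) : Row88 2 S :=
  row88_of_sit fun Y _ _ V _ _ _ K ρ π φ H A hA => by
    by_cases hc : Cub ρ A
    · exact ⟨A, hA, hc⟩
    obtain ⟨r, -, h1, h2⟩ := hA.exists_card
    have h3 := seven_le_cod hA.1 hc
    rcases h _ (elemAb_map hA.1 φ) r (by omega) ((H.toStp.card_map H.toFrm (elemAb_isPGroup hA.1)).trans h1) with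
      h4 | ⟨_, ⟨d, hd, rfl⟩, h4⟩
    · have := h4 Y V K ρ π φ H A le_rfl
      omega
    · have h5 := h4.elt H rfl
      have h6 := cod_add_three_le_of_not_cub hA.1 hc hd
      omega

/-- `p = 3`: a group all of whose elements have the same fixed space is cubic -/
theorem cub_of_eq_three {k : Type*} [Field k] [CharP k 3] {Y : Type*} [Group Y] {V : Type*} [AddCommGroup V]
    [Module k V] [FiniteDimensional k V] {ρ : Representation k Y V} {A : Subgroup Y} (hA : IsElementaryAbelian 3 A)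
    (h : ∀ a ∈ A, a ≠ 1 → cod ρ A ≤ cod ρ (zpowers a)) : Cub ρ A := by
  have : Fact (Nat.Prime 3) := ⟨Nat.prime_three⟩
  have h1 : ∀ a ∈ A, a ≠ 1 → ∀ b ∈ A, ∀ v, (ρ a - 1) v = 0 → (ρ b - 1) v = 0 := fun a ha e b hb v hv => by
    have h2 : v ∈ fx ρ A := by
      rw [XL.fx_eq_of_cod_le (zpowers_le.2 ha) (h a ha e), fx_zpowers]
      exact hv
    rw [LinearMap.sub_apply, h2 b hb, Module.End.one_apply, sub_self]
  intro a ha b hb c hc
  ext v
  show (ρ a - 1) ((ρ b - 1) ((ρ c - 1) v)) = 0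
  by_cases e : b = 1
  · simp [e]
  refine h1 b hb e a ha _ ?_
  rw [sub_one_comm (elemAb_comm hA hb hc) v, sub_one_comm (elemAb_comm hA hb hc)]
  refine h1 b hb e c hc _ ?_
  have h3 := congrArg (fun f : Module.End k V => f v) (sub_one_pow (ρ := ρ) (p := 3) (n := 1) (hA.2 b hb))
  simpa only [pow_succ, pow_zero, one_mul, Module.End.mul_apply, LinearMap.zero_apply] using h3

theorem row88_three (h : ∀ E : Subgroup (MulAut S), IsElementaryAbelian 3 E → ∀ r, 2 < r → Nat.card E = 3 ^ r →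
    haveI : Fact (Nat.Prime 3) := ⟨Nat.prime_three⟩
    Lo 3 E (2 * r + 1) ∨ ∀ d ∈ E, d ≠ 1 → Le 3 d (2 * r)) :
    haveI : Fact (Nat.Prime 3) := ⟨Nat.prime_three⟩
    Row88 3 S :=
  haveI : Fact (Nat.Prime 3) := ⟨Nat.prime_three⟩
  row88_of_sit fun Y _ _ V _ _ _ K ρ π φ H A hA => by
    by_cases hc : Cub ρ A
    · exact ⟨A, hA, hc⟩
    obtain ⟨r, -, h1, h2⟩ := hA.exists_card
    have h3 := five_le_cod hA.1 hc
    rcases h _ (elemAb_map hA.1 φ) r (by omega) ((H.toStp.card_map H.toFrm (elemAb_isPGroup hA.1)).trans h1) with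
      h4 | h4
    · have := h4 Y V K ρ π φ H A le_rfl
      omega
    · exact (hc (cub_of_eq_three hA.1 fun a ha e => h2.trans ((h4 _ ⟨a, ha, rfl⟩ fun e' =>
        e (H.toStp.eq_one_of_φ H.toFrm (n := 1) (by rw [pow_one]; exact hA.1.2 a ha) e')).elt H rfl))).elim

/-- reduction to a Sylow subgroup of `Aut S` -/
theorem lo_of_sylow [Finite S] {P : Subgroup (MulAut S)} (hP : IsPGroup p P) (hi : ¬ p ∣ P.index)
    (hE : IsElementaryAbelian p E) (h : ∀ E' ≤ P, IsElementaryAbelian p E' → Nat.card E' = Nat.card E →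
      (¬ E ≤ Inn S → ¬ E' ≤ Inn S) → Lo p E' n) : Lo p E n := by
  obtain ⟨β, hβ⟩ := exists_conj_le hP hi (elemAb_isPGroup hE)
  exact Lo.of_conj β (h _ hβ (elemAb_map hE _) (card_map_conj β E) (not_le_inn_conj β))

/-- all automorphisms of order `p`, from a Sylow subgroup of `Aut S` -/
theorem le_of_sylow [Finite S] {P : Subgroup (MulAut S)} (hP : IsPGroup p P) (hi : ¬ p ∣ P.index)
    (h : ∀ β ∈ P, β ≠ 1 → β ^ p = 1 → Le p β n) (h1 : α ≠ 1) (h2 : α ^ p = 1) : Le p α n := by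
  obtain ⟨g, hg⟩ := exists_conj_le hP hi (elemAb_isPGroup (elemAb_zpowers h2))
  exact Le.of_conj g (h _ (hg ⟨α, mem_zpowers α, rfl⟩) (fun e => h1 (by simpa using e)) (by rw [conj_pow, h2]; simp))

theorem exists_ne_one {G : Type*} [Group G] {E : Subgroup G} {r : ℕ} (hr : 0 < r) (h : Nat.card E = p ^ r) :
    ∃ α ∈ E, α ≠ 1 := by
  by_contra! e
  rw [(eq_bot_iff_forall E).2 e, card_bot] at h
  exact (Nat.one_lt_pow hr.ne' (Fact.out : p.Prime).one_lt).ne h

/-- all automorphisms of order `p` are expensive -/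
theorem noOff_of_le {r₀ : ℕ} (hr : ∀ E : Subgroup (MulAut S), IsElementaryAbelian p E → Nat.card E ≤ p ^ r₀)
    (h : ∀ α : MulAut S, α ≠ 1 → α ^ p = 1 → Le p α (2 * r₀ + 1)) : NoOff p S :=
  noOff_of_lo fun E hE r h0 hc => by
    obtain ⟨α, hα, h1⟩ := exists_ne_one h0 hc
    have := (Nat.pow_le_pow_iff_right (Fact.out : p.Prime).one_lt).1 (hc ▸ hr E hE)
    exact ((h α h1 (hE.2 α hα)).lo hα).le (by omega)

theorem card_le_of_not_dvd {G : Type*} [Group G] [Finite G] {r₀ : ℕ} (h : ¬ p ^ (r₀ + 1) ∣ Nat.card G) (E : Subgroup G)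
    (hE : IsElementaryAbelian p E) : Nat.card E ≤ p ^ r₀ := by
  obtain ⟨r, hr⟩ := (elemAb_isPGroup hE).exists_card_eq
  rw [hr]
  refine Nat.pow_le_pow_right (Fact.out : p.Prime).pos (le_of_not_gt fun e => h ?_)
  exact (pow_dvd_pow p e).trans (hr ▸ card_subgroup_dvd_card E)

/-- a group with a Sylow subgroup that is not elementary abelian -/
theorem card_le_of_not_elemAb {G : Type*} [Group G] [Finite G] {r₀ : ℕ} (h : ¬ p ^ (r₀ + 2) ∣ Nat.card G)
    {Q : Subgroup G} (hQ : IsPGroup p Q) (hn : ¬ IsElementaryAbelian p Q) (E : Subgroup G)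
    (hE : IsElementaryAbelian p E) : Nat.card E ≤ p ^ r₀ := by
  obtain ⟨r, hr⟩ := (elemAb_isPGroup hE).exists_card_eq
  rw [hr]
  refine Nat.pow_le_pow_right (Fact.out : p.Prime).pos (le_of_not_gt fun e => hn ?_)
  have hi : ¬ p ∣ E.index := fun d => h (by
    rw [← E.card_mul_index, hr]
    exact (pow_succ p (r₀ + 1)).symm ▸ mul_dvd_mul (pow_dvd_pow p e) d)
  obtain ⟨g, hg⟩ := exists_conj_le (elemAb_isPGroup hE) hi hQ
  have := elemAb_map (elemAb_of_le hE hg) (MulAut.conj g⁻¹).toMonoidHom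
  rwa [map_map, show (MulAut.conj g⁻¹).toMonoidHom.comp (MulAut.conj g).toMonoidHom = MonoidHom.id G from
    MonoidHom.ext fun x => by simp [mul_assoc], map_id] at this

/-- automorphisms of order `p` are inner if `p` does not divide `|Out S|` -/
theorem exists_inner (hS : center S = ⊥) (ho : ¬ p ∣ Nat.card (Out S)) (h1 : α ≠ 1) (h2 : α ^ p = 1) :
    ∃ x : S, α = MulAut.conj x ∧ x ≠ 1 ∧ x ^ p = 1 := by
  have h3 : α ∈ Inn S := by
    by_contra e
    refine ho ?_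
    have h4 : orderOf (QuotientGroup.mk α : Out S) = p := orderOf_eq_prime
      (by rw [← QuotientGroup.mk_pow, h2, QuotientGroup.mk_one]) fun e' => e ((QuotientGroup.eq_one_iff _).1 e')
    exact h4 ▸ orderOf_dvd_natCard _
  obtain ⟨x, rfl⟩ := h3
  exact ⟨x, rfl, fun e => h1 (by rw [e, map_one]), (conj_eq_one_iff hS).1 (by rw [map_pow, h2])⟩

end Cfsg.Agent.TwoF.XE
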