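import Cfsg.Agent.TwoF.XE.Bridge
import Cfsg.Prelude.Def_LieTypeChar

/-!
# TwoF / XE: numerics and the reduction to cross characteristic (helper6)
-/

set_option autoImplicit false

namespace Cfsg.Agent.TwoF.XE

variable {p : ℕ} [Fact p.Prime]

theorem le_two_pow_pred (q : ℕ) : q ≤ 2 ^ (q - 1) := by
  rcases q with _ | q
  · exact Nat.zero_le _
  · exact Nat.lt_two_pow_self

/-- `x ≤ q ^ a` and `2 a < b` give `x ^ 2 < p ^ ((q - 1) b)` -/
theorem sq_lt_of_le {x q a b : ℕ} (hq : 2 ≤ q) (hx : x ≤ q ^ a) (h : 2 * a < b) : x ^ 2 < p ^ ((q - 1) * b) := by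
  refine sq_lt_pow (a := (q - 1) * a) (hx.trans ?_) ?_
  · rw [pow_mul]
    exact Nat.pow_le_pow_left (le_two_pow_pred q) a
  · have : 0 < q - 1 := by omega
    nlinarith

theorem pow_add_one_le {q : ℕ} (hq : 2 ≤ q) (n : ℕ) : q ^ n + 1 ≤ q ^ (n + 1) := by
  have := Nat.one_le_pow n q (by omega)
  rw [pow_succ]
  nlinarith

theorem exp_le {r f : ℕ} (hr : 2 ≤ r) : f ≤ r ^ f := (Nat.lt_pow_self hr).le

theorem gcd_three_le (n : ℕ) : Nat.gcd 3 n ≤ 3 := Nat.gcd_le_left n (by norm_num)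

theorem gcd_two_le (n : ℕ) : Nat.gcd 2 n ≤ 2 := Nat.gcd_le_left n (by norm_num)

/-- the characteristic and the degree of a finite field -/
theorem exists_char (F : Type) [Field F] [Fintype F] :
    ∃ r f : ℕ, r.Prime ∧ CharP F r ∧ 1 ≤ f ∧ Fintype.card F = r ^ f := by
  obtain ⟨r, hr⟩ := CharP.exists F
  obtain ⟨n, h1, h2⟩ := FiniteField.card F r
  exact ⟨r, n, h1, hr, n.2, h2⟩

/-- the same for a field with `q ^ n` elements -/
theorem exists_char' (K : Type) [Field K] [Fintype K] {q n : ℕ} (hq : IsPrimePow q)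
    (hK : Fintype.card K = q ^ n) : ∃ r f : ℕ, r.Prime ∧ CharP K r ∧ 1 ≤ f ∧ q = r ^ f := by
  obtain ⟨r, f, hr, hf, rfl⟩ := (isPrimePow_nat_iff q).1 hq
  obtain ⟨s, g, hs, hc, hg, e⟩ := exists_char K
  have h1 : s ∣ r := by
    have : s ∣ (r ^ f) ^ n := by rw [← hK, e]; exact dvd_pow_self s (by omega)
    exact hs.dvd_of_dvd_pow (hs.dvd_of_dvd_pow this)
  obtain rfl := (Nat.prime_dvd_prime_iff_eq hs hr).1 h1
  exact ⟨s, f, hs, hc, hf, rfl⟩

end Cfsg.Agent.TwoF.XE
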